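import Mathlib

/-! Exterior powers commute with base change, in any characteristic. -/

set_option autoImplicit false

universe u

noncomputable section

open TensorProduct

namespace Groth.Agent.DR15

variable {A B M N : Type u} [CommRing A] [CommRing B] [Algebra A B] [AddCommGroup M] [Module A M]
  [AddCommGroup N] [Module A N] [Module B N] [IsScalarTower A B N]

local notation "EM" => ExteriorAlgebra A M

theorem mul_add_swap_zero (x y : B ⊗[A] M) :
    (ExteriorAlgebra.ι A).baseChange B x * (ExteriorAlgebra.ι A).baseChange B y +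
      (ExteriorAlgebra.ι A).baseChange B y * (ExteriorAlgebra.ι A).baseChange B x = (0 : B ⊗[A] EM) := by
  induction x using TensorProduct.induction_on with
  | zero => simp
  | add a b ha hb =>
    rw [map_add, add_mul, mul_add, add_add_add_comm, ha, hb, add_zero]
  | tmul b m =>
    induction y using TensorProduct.induction_on with
    | zero => simp
    | add u v hu hv => rw [map_add, add_mul, mul_add, add_add_add_comm, hu, hv, add_zero]
    | tmul c n =>
      rw [LinearMap.baseChange_tmul, LinearMap.baseChange_tmul, Algebra.TensorProduct.tmul_mul_tmul,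
        Algebra.TensorProduct.tmul_mul_tmul, mul_comm c b, ← tmul_add, ExteriorAlgebra.ι_add_mul_swap, tmul_zero]

theorem baseChange_ι_sq_zero (x : B ⊗[A] M) :
    (ExteriorAlgebra.ι A).baseChange B x * (ExteriorAlgebra.ι A).baseChange B x = (0 : B ⊗[A] EM) := by
  induction x using TensorProduct.induction_on with
  | zero => simp
  | add u v hu hv =>
    rw [map_add, add_mul, mul_add, mul_add, hu, hv, zero_add, add_zero, mul_add_swap_zero]
  | tmul b m =>
    rw [LinearMap.baseChange_tmul, Algebra.TensorProduct.tmul_mul_tmul, ExteriorAlgebra.ι_sq_zero, tmul_zero]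

theorem exteriorPower_isBaseChange {f : M →ₗ[A] N} (hf : IsBaseChange B f) (p : ℕ)
    (g : ↥(⋀[A]^p M) →ₗ[A] ↥(⋀[B]^p N))
    (hg : ∀ v : Fin p → M, g (exteriorPower.ιMulti A p v) = exteriorPower.ιMulti B p (f ∘ v)) :
    IsBaseChange B g := by
  let j : N →ₗ[B] B ⊗[A] EM := (ExteriorAlgebra.ι A).baseChange B ∘ₗ hf.equiv.symm.toLinearMap
  let Φ : ExteriorAlgebra B N →ₐ[B] B ⊗[A] EM := ExteriorAlgebra.lift B ⟨j, fun n => baseChange_ι_sq_zero _⟩
  have hΦ : ∀ m, Φ (ExteriorAlgebra.ι B (f m)) = 1 ⊗ₜ ExteriorAlgebra.ι A m := fun m => by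
    rw [ExteriorAlgebra.lift_ι_apply]
    show (ExteriorAlgebra.ι A).baseChange B (hf.equiv.symm (f m)) = _
    rw [hf.equiv_symm_apply, LinearMap.baseChange_tmul]
  let Γ := g.liftBaseChange B
  have hΓ : ∀ (b : B) (x : ↥(⋀[A]^p M)), Φ (Γ (b ⊗ₜ x) : ExteriorAlgebra B N) = b ⊗ₜ (x : EM) := by
    have key : ((Φ.toLinearMap.restrictScalars A) ∘ₗ ((⋀[B]^p N).subtype.restrictScalars A) ∘ₗ g) =
        (TensorProduct.mk A B EM 1) ∘ₗ (⋀[A]^p M).subtype := by
      refine exteriorPower.linearMap_ext (AlternatingMap.ext fun v => ?_)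
      show Φ (g (exteriorPower.ιMulti A p v) : ExteriorAlgebra B N) = 1 ⊗ₜ (exteriorPower.ιMulti A p v : EM)
      rw [hg, exteriorPower.ιMulti_apply_coe, exteriorPower.ιMulti_apply_coe, ExteriorAlgebra.ιMulti_apply,
        ExteriorAlgebra.ιMulti_apply, map_list_prod, List.map_ofFn]
      simp only [Function.comp_def, hΦ]
      rw [← Algebra.TensorProduct.includeRight_apply, map_list_prod, List.map_ofFn]
      rfl
    intro b x
    have h1 : Φ (g x : ExteriorAlgebra B N) = 1 ⊗ₜ (x : EM) := LinearMap.congr_fun key x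
    show Φ ((g.liftBaseChange B (b ⊗ₜ x) : ↥(⋀[B]^p N)) : ExteriorAlgebra B N) = _
    rw [LinearMap.liftBaseChange_tmul, Submodule.coe_smul, map_smul, h1, smul_tmul', smul_eq_mul, mul_one]
  let P : EM →ₗ[A] ↥(⋀[A]^p M) :=
    (DirectSum.component A ℕ (fun i => ↥(⋀[A]^i M)) p) ∘ₗ
      (DirectSum.decomposeLinearEquiv (fun i => ⋀[A]^i M)).toLinearMap
  have hP : ∀ x : ↥(⋀[A]^p M), P (x : EM) = x := fun x => by
    show (DirectSum.decompose (fun i => ⋀[A]^i M) (x : EM)) p = x
    rw [DirectSum.decompose_coe, DirectSum.of_eq_same]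
  have hret : ∀ z, P.baseChange B (Φ (Γ z : ExteriorAlgebra B N)) = z := by
    intro z
    induction z using TensorProduct.induction_on with
    | zero => simp
    | add a b ha hb => simp only [map_add, Submodule.coe_add, ha, hb]
    | tmul b x => rw [hΓ, LinearMap.baseChange_tmul, hP]
  have hspan : Submodule.span B (Set.range f) = ⊤ := by
    rw [eq_top_iff]
    intro n hn
    clear hn
    obtain ⟨z, rfl⟩ := hf.equiv.surjective n
    induction z using TensorProduct.induction_on with
    | zero => simp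
    | add a b ha hb => rw [map_add]; exact Submodule.add_mem _ ha hb
    | tmul b m => rw [hf.equiv_tmul]; exact Submodule.smul_mem _ _ (Submodule.subset_span ⟨m, rfl⟩)
  refine IsBaseChange.of_equiv (LinearEquiv.ofBijective Γ ⟨Function.LeftInverse.injective
    (g := fun y : ↥(⋀[B]^p N) => P.baseChange B (Φ (y : ExteriorAlgebra B N))) hret, ?_⟩) fun x => ?_
  · rw [← LinearMap.range_eq_top, eq_top_iff, ← exteriorPower.ιMulti_span_of_span B p N hspan, Submodule.span_le]
    rintro _ ⟨v, hv, rfl⟩
    choose m hm using fun i => hv ⟨i, rfl⟩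
    exact ⟨1 ⊗ₜ exteriorPower.ιMulti A p m, by
      rw [LinearMap.liftBaseChange_tmul, one_smul, hg]; congr 1; funext i; exact hm i⟩
  · show g.liftBaseChange B (1 ⊗ₜ x) = g x
    rw [LinearMap.liftBaseChange_tmul, one_smul]

end Groth.Agent.DR15
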