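import Groth.Agent.DR15.Basic

/-! The de Rham differential of Kähler differentials and of their quotients. -/

universe v u

noncomputable section

namespace Groth.Agent.DR15

open ExteriorAlgebra

variable {R : Type v} {A : Type u} [CommRing R] [CommRing A] [Algebra R A]

local notation "Ω" => KaehlerDifferential R A
local notation "E" => ExteriorAlgebra A (KaehlerDifferential R A)
local notation "𝑫" => KaehlerDifferential.D R A

/-- `Ω × E` with twisted action -/
def WK (R : Type v) (A : Type u) [CommRing R] [CommRing A] [Algebra R A] : Type u :=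
  KaehlerDifferential R A × ExteriorAlgebra A (KaehlerDifferential R A)

instance : AddCommGroup (WK R A) :=
  inferInstanceAs (AddCommGroup (KaehlerDifferential R A × ExteriorAlgebra A (KaehlerDifferential R A)))

/-- pairs as elements of `WK` -/
def mkK (x : Ω) (y : E) : WK R A := (x, y)

@[simp] theorem mkK_fst (x : Ω) (y : E) : (mkK x y).1 = x := rfl
@[simp] theorem mkK_snd (x : Ω) (y : E) : (mkK x y).2 = y := rfl

instance : SMul A (WK R A) := ⟨fun a w => mkK (a • w.1) (a • w.2 + ι A (𝑫 a) * ι A w.1)⟩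

@[simp] theorem wk_smul_fst (a : A) (w : WK R A) : (a • w).1 = a • w.1 := rfl
@[simp] theorem wk_smul_snd (a : A) (w : WK R A) : (a • w).2 = a • w.2 + ι A (𝑫 a) * ι A w.1 := rfl
@[simp] theorem wk_add_fst (v w : WK R A) : (v + w).1 = v.1 + w.1 := rfl
@[simp] theorem wk_add_snd (v w : WK R A) : (v + w).2 = v.2 + w.2 := rfl
@[simp] theorem wk_zero_fst : (0 : WK R A).1 = 0 := rfl
@[simp] theorem wk_zero_snd : (0 : WK R A).2 = 0 := rfl

theorem wk_ext {v w : WK R A} (h₁ : v.1 = w.1) (h₂ : v.2 = w.2) : v = w := Prod.ext h₁ h₂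

instance : Module A (WK R A) where
  one_smul w := by refine wk_ext ?_ ?_ <;> simp
  mul_smul a b w := by
    refine wk_ext ?_ ?_
    · simp [mul_smul]
    · simp only [wk_smul_snd, wk_smul_fst, Derivation.leibniz, map_add, map_smul, add_mul, smul_mul_assoc,
        mul_smul_comm, mul_smul, smul_add]
      abel
  smul_zero a := by refine wk_ext ?_ ?_ <;> simp
  smul_add a v w := by
    refine wk_ext ?_ ?_
    · simp
    · simp [mul_add]; abel
  add_smul a b w := by
    refine wk_ext ?_ ?_
    · simp [add_smul]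
    · simp [add_smul, add_mul]; abel
  zero_smul w := by refine wk_ext ?_ ?_ <;> simp

instance : Module R (WK R A) := Module.compHom (WK R A) (algebraMap R A)

instance : IsScalarTower R A (WK R A) := IsScalarTower.of_algebraMap_smul fun _ _ => rfl

/-- `b ↦ (db, 0)` -/
def derWK : Derivation R A (WK R A) where
  toFun b := mkK (𝑫 b) 0
  map_add' a b := by
    refine wk_ext ?_ ?_
    · simp only [mkK_fst, wk_add_fst, map_add]
    · simp only [mkK_snd, wk_add_snd, add_zero]
  map_smul' r b := by
    refine wk_ext ?_ ?_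
    · show 𝑫 (r • b) = algebraMap R A r • 𝑫 b
      rw [Derivation.map_smul, IsScalarTower.algebraMap_smul]
    · show (0 : E) = algebraMap R A r • (0 : E) + ι A (𝑫 (algebraMap R A r)) * ι A (𝑫 b)
      rw [smul_zero, Derivation.map_algebraMap, map_zero, zero_mul, add_zero]
  map_one_eq_zero' := by
    refine wk_ext ?_ ?_
    · show 𝑫 1 = 0
      rw [Derivation.map_one_eq_zero]
    · rfl
  leibniz' a b := by
    refine wk_ext ?_ ?_
    · show 𝑫 (a * b) = a • 𝑫 b + b • 𝑫 a
      rw [Derivation.leibniz]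
    · show (0 : E) = (a • (0 : E) + ι A (𝑫 a) * ι A (𝑫 b)) + (b • (0 : E) + ι A (𝑫 b) * ι A (𝑫 a))
      rw [smul_zero, smul_zero, zero_add, zero_add, ExteriorAlgebra.ι_add_mul_swap]

/-- the lift to `WK` -/
def liftWK : Ω →ₗ[A] WK R A := Derivation.liftKaehlerDifferential derWK

theorem liftWK_fst (m : Ω) : (liftWK m).1 = m := by
  let p : WK R A →ₗ[A] Ω := { toFun := fun w => w.1, map_add' := fun _ _ => rfl, map_smul' := fun _ _ => rfl }
  have h : p ∘ₗ liftWK = LinearMap.id := Derivation.liftKaehlerDifferential_unique _ _ (by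
    ext b
    show (liftWK (𝑫 b)).1 = 𝑫 b
    rw [liftWK, Derivation.liftKaehlerDifferential_comp_D]
    rfl)
  exact LinearMap.congr_fun h m

variable (R A)

/-- the differential on Kähler 1-forms -/
def kDatum : Datum (R := R) (A := A) (M := KaehlerDifferential R A) (KaehlerDifferential.D R A) where
  D :=
    { toFun := fun m => (liftWK m).2
      map_zero' := by rw [map_zero]; rfl
      map_add' := fun a b => by rw [map_add]; rfl }
  leibniz a m := by
    show (liftWK (a • m)).2 = _
    rw [map_smul, wk_smul_snd, liftWK_fst, add_comm]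
    rfl
  mem m := by
    show (liftWK m).2 ∈ _
    have hm : m ∈ Submodule.span A (Set.range 𝑫) := by
      rw [KaehlerDifferential.span_range_derivation]; exact Submodule.mem_top
    induction hm using Submodule.span_induction with
    | mem x hx =>
      obtain ⟨b, rfl⟩ := hx
      rw [liftWK, Derivation.liftKaehlerDifferential_comp_D]
      exact Submodule.zero_mem _
    | zero => rw [map_zero]; exact Submodule.zero_mem _
    | add x y _ _ hx hy => rw [map_add]; exact Submodule.add_mem _ hx hy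
    | smul c x _ hx =>
      rw [map_smul, wk_smul_snd]
      refine Submodule.add_mem _ (Submodule.smul_mem _ c hx) ?_
      rw [exteriorPower, pow_two]
      exact Submodule.mul_mem_mul (LinearMap.mem_range_self _ _) (LinearMap.mem_range_self _ _)
  closed a := by
    show (liftWK (𝑫 a)).2 = 0
    rw [liftWK, Derivation.liftKaehlerDifferential_comp_D]
    rfl
  spans := KaehlerDifferential.span_range_derivation R A

variable {R A}

theorem kaehler_isDiff : DeRham.IsDiff 𝑫 (dp (kDatum R A)) := isDiff_dp _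

theorem eq_dp {d : ∀ p : ℕ, ↥(⋀[A]^p Ω) →ₗ[R] ↥(⋀[A]^(p + 1) Ω)} (hd : DeRham.IsRule 𝑫 d) :
    d = dp (kDatum R A) :=
  rule_unique (KaehlerDifferential.span_range_derivation R A) hd (isRule_dp _)

theorem isDiff_of_isRule {d : ∀ p : ℕ, ↥(⋀[A]^p Ω) →ₗ[R] ↥(⋀[A]^(p + 1) Ω)} (hd : DeRham.IsRule 𝑫 d) :
    DeRham.IsDiff 𝑫 d := by
  rw [eq_dp hd]; exact kaehler_isDiff

theorem commutator_smul {d : ∀ p : ℕ, ↥(⋀[A]^p Ω) →ₗ[R] ↥(⋀[A]^(p + 1) Ω)} (hd : DeRham.IsRule 𝑫 d)
    (p : ℕ) (a : A) (x : ↥(⋀[A]^p Ω)) :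
    ((d p (a • x) - a • d p x : ↥(⋀[A]^(p + 1) Ω)) : E) = ι A (𝑫 a) * (x : E) := by
  rw [eq_dp hd]
  show d0 (kDatum R A) (a • (x : E)) - a • d0 (kDatum R A) (x : E) = _
  rw [d0_smul, add_sub_cancel_right]

/-- the exterior derivative on the whole exterior algebra of Kähler differentials -/
def dK : E →ₗ[R] E := dT (kDatum R A)

theorem dK_spec :
    (∀ a : A, dK (R := R) (algebraMap A E a) = ι A (𝑫 a)) ∧
      (∀ (p : ℕ) (x : E), x ∈ exteriorPower A p Ω → dK x ∈ exteriorPower A (p + 1) Ω) ∧
      (∀ (p : ℕ) (x y : E), x ∈ exteriorPower A p Ω → dK (x * y) = dK x * y + (-1) ^ p * x * dK y) ∧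
      ∀ x : E, dK (dK x) = 0 := by
  refine ⟨d0_algebraMap _, fun p x hx => d0_mem _ hx, fun p x y hx => ?_, d0_d0 _⟩
  show d0 _ (x * y) = _
  rw [d0_mul, inv_mem hx]
  rfl

theorem ext_dK (f : E →+ E) (h1 : ∀ a : A, f (algebraMap A E a) = ι A (𝑫 a))
    (h2 : ∀ (p q : ℕ) (x y : E), x ∈ exteriorPower A p Ω → y ∈ exteriorPower A q Ω →
      f (x * y) = f x * y + (-1) ^ p * x * f y)
    (h3 : ∀ x : E, f (f x) = 0) : f = d0 (kDatum R A) := by
  have mem0 : ∀ a : A, algebraMap A E a ∈ exteriorPower A 0 Ω := fun a => by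
    rw [exteriorPower, pow_zero]; exact Submodule.mem_one.2 ⟨a, rfl⟩
  have mem1 : ∀ m : Ω, ι A m ∈ exteriorPower A 1 Ω := fun m => by
    rw [exteriorPower, pow_one]; exact LinearMap.mem_range_self _ _
  have hι : ∀ m : Ω, f (ι A m) = d0 (kDatum R A) (ι A m) := by
    intro m
    have hm : m ∈ Submodule.span A (Set.range 𝑫) := by
      rw [KaehlerDifferential.span_range_derivation]; exact Submodule.mem_top
    suffices H : ∀ a : A, f (ι A (a • m)) = d0 (kDatum R A) (ι A (a • m)) by simpa using H 1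
    induction hm using Submodule.span_induction with
    | mem x hx =>
      obtain ⟨b, rfl⟩ := hx
      intro a
      have hb : f (ι A (𝑫 b)) = 0 := by rw [← h1, h3]
      have hb' : d0 (kDatum R A) (ι A (𝑫 b)) = 0 := by rw [d0_ι, (kDatum R A).closed]
      rw [map_smul, Algebra.smul_def, h2 0 1 _ _ (mem0 a) (mem1 _), h1, hb, mul_zero, add_zero,
        d0_mul, d0_algebraMap, hb', mul_zero, add_zero]
    | zero => intro a; rw [smul_zero, map_zero, map_zero, map_zero]
    | add x y _ _ hx hy => intro a; rw [smul_add, map_add, map_add, map_add, hx, hy]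
    | smul c x _ hx => intro a; rw [smul_smul]; exact hx _
  have hp : ∀ (p : ℕ) (x : E), x ∈ exteriorPower A p Ω → f x = d0 (kDatum R A) x := by
    intro p
    induction p with
    | zero =>
      intro x hx
      rw [exteriorPower, pow_zero] at hx
      obtain ⟨a, rfl⟩ := Submodule.mem_one.1 hx
      rw [h1, d0_algebraMap]
    | succ p ih =>
      intro x hx
      rw [exteriorPower, pow_succ'] at hx
      induction hx using Submodule.mul_induction_on' with
      | mem_mul_mem y hy z hz =>
        obtain ⟨y, rfl⟩ := hy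
        rw [h2 1 p _ _ (mem1 y) hz, hι, ih z hz, d0_ι_mul, d0_ι, pow_one, neg_one_mul, neg_mul, ← sub_eq_add_neg]
      | add y _ z _ hy hz => rw [map_add, map_add, hy, hz]
  ext x
  induction x using DirectSum.Decomposition.inductionOn fun i => ⋀[A]^i Ω with
  | zero => rw [map_zero, map_zero]
  | homogeneous hm => exact hp _ _ hm.2
  | add a b ha hb => rw [map_add, map_add, ha, hb]

section Quot

variable {Ω' : Type u} [AddCommGroup Ω'] [Module A Ω'] [Module R Ω'] [IsScalarTower R A Ω']

theorem exists_isDiff_quotient (π : Ω →ₗ[A] Ω') (hπ : Function.Surjective π)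
    (dA : ∀ p : ℕ, ↥(⋀[A]^p Ω) →ₗ[R] ↥(⋀[A]^(p + 1) Ω)) (hdA : DeRham.IsDiff 𝑫 dA)
    (hker : LinearMap.ker π ≤ Submodule.span A {ω : Ω | π ω = 0 ∧
      exteriorPower.map 2 π (dA 1 ((exteriorPower.oneEquiv A Ω).symm ω)) = 0}) :
    ∃ d : ∀ p : ℕ, ↥(⋀[A]^p Ω') →ₗ[R] ↥(⋀[A]^(p + 1) Ω'),
      DeRham.IsDiff (π.compDer 𝑫) d ∧
        ∀ (p : ℕ) (x : ↥(⋀[A]^p Ω)), d p (exteriorPower.map p π x) = exteriorPower.map (p + 1) π (dA p x) := by
  set δ : Derivation R A Ω' := π.compDer 𝑫 with hδ
  let K := kDatum R A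
  let F : ExteriorAlgebra A Ω →ₐ[A] ExteriorAlgebra A Ω' := ExteriorAlgebra.map π
  have hone : ∀ ω : Ω, ((exteriorPower.oneEquiv A Ω).symm ω : E) = ι A ω := fun ω => by
    obtain ⟨v, rfl⟩ : ∃ v : Fin 1 → Ω, v 0 = ω := ⟨fun _ => ω, rfl⟩
    conv_lhs => rw [← exteriorPower.oneEquiv_ιMulti (R := A) v]
    rw [LinearEquiv.symm_apply_apply, exteriorPower.ιMulti_apply_coe,
      ιMulti_succ_apply, ιMulti_zero_apply, mul_one]
  have hcoe : ∀ (p : ℕ) (x : ↥(⋀[A]^p Ω)),
      ((exteriorPower.map p π x : ↥(⋀[A]^p Ω')) : ExteriorAlgebra A Ω') = F (x : E) := by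
    intro p x
    suffices (⋀[A]^p Ω').subtype ∘ₗ exteriorPower.map p π = F.toLinearMap ∘ₗ (⋀[A]^p Ω).subtype from
      LinearMap.congr_fun this x
    refine exteriorPower.linearMap_ext (AlternatingMap.ext fun v => ?_)
    simp only [LinearMap.compAlternatingMap_apply, LinearMap.comp_apply, Submodule.subtype_apply,
      exteriorPower.map_apply_ιMulti, exteriorPower.ιMulti_apply_coe, AlgHom.toLinearMap_apply]
    exact (ExteriorAlgebra.map_apply_ιMulti π v).symm
  let D₁ : Ω →+ ExteriorAlgebra A Ω' := F.toLinearMap.toAddMonoidHom.comp K.D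
  have hzero : ∀ ω, π ω = 0 → D₁ ω = 0 := by
    intro ω hω
    have hm := hker (show ω ∈ LinearMap.ker π from hω)
    suffices H : ∀ c : A, D₁ (c • ω) = 0 ∧ π (c • ω) = 0 by simpa using (H 1).1
    clear hω
    induction hm using Submodule.span_induction with
    | mem y hy =>
      intro c
      have h2 := congrArg Subtype.val hy.2
      rw [hcoe, eq_dp hdA.1] at h2
      have h3 : D₁ y = 0 := by
        show F (K.D y) = 0
        rw [show K.D y = d0 K ((exteriorPower.oneEquiv A Ω).symm y : E) by rw [hone, d0_ι]]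
        exact h2
      refine ⟨?_, by rw [map_smul, hy.1, smul_zero]⟩
      show F (K.D (c • y)) = 0
      rw [K.leibniz, map_add, map_smul, map_mul, ExteriorAlgebra.map_apply_ι, ExteriorAlgebra.map_apply_ι, hy.1,
        map_zero, mul_zero, zero_add, show F (K.D y) = 0 from h3, smul_zero]
    | zero => intro c; simp
    | add y z _ _ hy hz =>
      intro c
      exact ⟨by rw [smul_add, map_add, (hy c).1, (hz c).1, add_zero],
        by rw [smul_add, map_add, (hy c).2, (hz c).2, add_zero]⟩
    | smul a y _ hy => intro c; rw [smul_smul]; exact hy _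
  let s := Function.surjInv hπ
  have hs : ∀ m, π (s m) = m := Function.surjInv_eq hπ
  have hwd : ∀ ω, D₁ (s (π ω)) = D₁ ω := fun ω => by
    rw [← sub_eq_zero, ← map_sub]
    exact hzero _ (by rw [map_sub, hs, sub_self])
  let Q : Datum δ :=
    { D :=
        { toFun := fun m => D₁ (s m)
          map_zero' := hzero _ (hs 0)
          map_add' := fun a b => by
            conv_lhs => rw [← hs a, ← hs b, ← map_add, hwd, map_add] }
      leibniz := fun a m => by
        show D₁ (s (a • m)) = _
        conv_lhs => rw [← hs m, ← map_smul, hwd]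
        show F (K.D (a • s m)) = _
        rw [K.leibniz, map_add, map_smul, map_mul, ExteriorAlgebra.map_apply_ι, ExteriorAlgebra.map_apply_ι, hs]
        rfl
      mem := fun m => by
        show F (K.D (s m)) ∈ _
        exact (hcoe 2 ⟨_, K.mem (s m)⟩) ▸ (exteriorPower.map 2 π ⟨_, K.mem (s m)⟩).2
      closed := fun a => by
        show D₁ (s (π (𝑫 a))) = 0
        rw [hwd]
        show F (K.D (𝑫 a)) = 0
        rw [K.closed, map_zero]
      spans := by
        show Submodule.span A (Set.range fun a => π (𝑫 a)) = ⊤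
        rw [← Function.comp_def, Set.range_comp, ← Submodule.map_span, KaehlerDifferential.span_range_derivation,
          Submodule.map_top, LinearMap.range_eq_top.2 hπ] }
  refine ⟨dp Q, isDiff_dp Q, fun p => ?_⟩
  rw [eq_dp hdA.1]
  have key : ∀ (p : ℕ) (b₀ : A) (b : Fin p → A),
      exteriorPower.map p π (DeRham.gen 𝑫 p b₀ b) = DeRham.gen δ p b₀ b := fun p b₀ b => by
    rw [DeRham.gen, map_smul, exteriorPower.map_apply_ιMulti]
    rfl
  have := ext_of_gen (δ := 𝑫) (KaehlerDifferential.span_range_derivation R A)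
    ((dp Q p).toAddMonoidHom.comp (exteriorPower.map p π).toAddMonoidHom)
    ((exteriorPower.map (p + 1) π).toAddMonoidHom.comp (dp K p).toAddMonoidHom) (fun b₀ b => by
      show dp Q p (exteriorPower.map p π _) = exteriorPower.map (p + 1) π (dp K p _)
      rw [key, isRule_dp Q, isRule_dp K, exteriorPower.map_apply_ιMulti]
      congr 1
      ext i
      refine Fin.cases ?_ (fun i => ?_) i <;> rfl)
  exact fun x => DFunLike.congr_fun this x

end Quot

end Groth.Agent.DR15
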