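import Mathlib
import Groth.Agent.DR15.ExtBaseChange
import Groth.Agent.DR15.Kaehler

/-! Base change of de Rham complexes. -/

set_option autoImplicit false

universe u

noncomputable section

open TensorProduct

namespace Groth.Agent.DR15

variable {R S A B : Type u} [CommRing R] [CommRing S] [CommRing A] [CommRing B]
    [Algebra R S] [Algebra R A] [Algebra R B] [Algebra A B] [Algebra S B]
    [IsScalarTower R A B] [IsScalarTower R S B]

theorem exists_linear_cxMap (p : ℕ) (ψ : ∀ p : ℕ, ↥(⋀[A]^p (Ω[A⁄R])) →+ ↥(⋀[B]^p (Ω[B⁄S])))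
    (hψ : DeRham.IsCxMap (KaehlerDifferential.D R A) (KaehlerDifferential.D S B) (algebraMap A B) ψ) :
    ∃ g : ↥(⋀[A]^p (Ω[A⁄R])) →ₗ[A] ↥(⋀[B]^p (Ω[B⁄S])),
      (∀ x, g x = ψ p x) ∧
        ∀ v, g (exteriorPower.ιMulti A p v) = exteriorPower.ιMulti B p (KaehlerDifferential.map R S A B ∘ v) := by
  letI : SMulCommClass S A B := SMulCommClass.of_commMonoid S A B
  let κ := KaehlerDifferential.map R S A B
  let α : (Ω[A⁄R]) [⋀^Fin p]→ₗ[A] ↥(⋀[B]^p (Ω[B⁄S])) :=
    { toFun := fun v => exteriorPower.ιMulti B p (κ ∘ v)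
      map_update_add' := fun v i x y => by
        simp only [Function.comp_update, map_add, AlternatingMap.map_update_add]
      map_update_smul' := fun v i c x => by
        simp only [Function.comp_update, map_smul]
        rw [← IsScalarTower.algebraMap_smul B c (κ x), AlternatingMap.map_update_smul, IsScalarTower.algebraMap_smul]
      map_eq_zero_of_eq' := fun v i j hij hne =>
        (exteriorPower.ιMulti B p).map_eq_zero_of_eq _ (congrArg κ hij) hne }
  let g := exteriorPower.alternatingMapLinearEquiv α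
  refine ⟨g, fun x => ?_, fun v => exteriorPower.alternatingMapLinearEquiv_apply_ιMulti α v⟩
  refine DFunLike.congr_fun (ext_of_gen (KaehlerDifferential.span_range_derivation R A)
    g.toAddMonoidHom (ψ p) fun b₀ b => ?_) x
  rw [hψ]
  show g (b₀ • exteriorPower.ιMulti A p _) = algebraMap A B b₀ • exteriorPower.ιMulti B p _
  rw [map_smul, exteriorPower.alternatingMapLinearEquiv_apply_ιMulti, IsScalarTower.algebraMap_smul]
  show b₀ • exteriorPower.ιMulti B p _ = _
  congr 2
  funext i
  exact KaehlerDifferential.map_D R S A B (b i)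

theorem isBaseChange_map [Algebra.IsPushout R S A B] :
    letI : SMulCommClass S A B := SMulCommClass.of_commMonoid S A B
    IsBaseChange B (KaehlerDifferential.map R S A B) := by
  letI : SMulCommClass S A B := SMulCommClass.of_commMonoid S A B
  refine IsBaseChange.of_equiv (KaehlerDifferential.tensorKaehlerEquiv R S A B) fun x => ?_
  have : ((KaehlerDifferential.tensorKaehlerEquiv R S A B).toLinearMap.restrictScalars A) ∘ₗ
      TensorProduct.mk A B (Ω[A⁄R]) 1 = KaehlerDifferential.map R S A B := by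
    refine LinearMap.ext_on (KaehlerDifferential.span_range_derivation R A) ?_
    rintro _ ⟨a, rfl⟩
    show KaehlerDifferential.tensorKaehlerEquiv R S A B (1 ⊗ₜ _) = _
    rw [KaehlerDifferential.tensorKaehlerEquiv_tmul_D, one_smul, KaehlerDifferential.map_D]
  exact LinearMap.congr_fun this x

theorem baseChange_bijective [Algebra.IsPushout R S A B]
    (ψ : ∀ p : ℕ, ↥(⋀[A]^p (Ω[A⁄R])) →+ ↥(⋀[B]^p (Ω[B⁄S])))
    (hψ : DeRham.IsCxMap (KaehlerDifferential.D R A) (KaehlerDifferential.D S B) (algebraMap A B) ψ)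
    (p : ℕ) (Φ : S ⊗[R] ↥(⋀[A]^p (Ω[A⁄R])) →+ ↥(⋀[B]^p (Ω[B⁄S])))
    (hΦ : ∀ (s : S) (x : ↥(⋀[A]^p (Ω[A⁄R]))), Φ (s ⊗ₜ[R] x) = s • ψ p x) : Function.Bijective Φ := by
  letI : SMulCommClass S A B := SMulCommClass.of_commMonoid S A B
  obtain ⟨g, hgψ, hgv⟩ := exists_linear_cxMap p ψ hψ
  have hbc := exteriorPower_isBaseChange (isBaseChange_map (R := R) (S := S) (A := A) (B := B)) p g hgv
  let c := Algebra.IsPushout.cancelBaseChange R S A B ↥(⋀[A]^p (Ω[A⁄R]))
  have hfun : ∀ z, Φ z = hbc.equiv (c.symm z) := by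
    intro z
    induction z using TensorProduct.induction_on with
    | zero => simp
    | add a b ha hb => rw [map_add, map_add, map_add, ha, hb]
    | tmul s x =>
      have hc : c.symm (s ⊗ₜ x) = algebraMap S B s ⊗ₜ x :=
        Algebra.IsPushout.cancelBaseChange_symm_tmul R S A B _ s x
      rw [hΦ, hc, hbc.equiv_tmul, hgψ, IsScalarTower.algebraMap_smul]
  rw [show (Φ : _ → _) = hbc.equiv ∘ c.symm from funext hfun]
  exact hbc.equiv.bijective.comp c.symm.bijective

theorem id_bijective {k K C : Type u} [Field k] [Field K] [CharZero k] [Algebra k K] [Module.Finite k K]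
    [CommRing C] [Algebra K C] [Algebra k C] [IsScalarTower k K C]
    (ψ : ∀ p : ℕ, ↥(⋀[C]^p (Ω[C⁄k])) →+ ↥(⋀[C]^p (Ω[C⁄K])))
    (hψ : DeRham.IsCxMap (KaehlerDifferential.D k C) (KaehlerDifferential.D K C) (RingHom.id C) ψ) (p : ℕ) :
    Function.Bijective (ψ p) := by
  haveI : Algebra.IsSeparable k K := inferInstance
  haveI : Algebra.FormallyUnramified k K := Algebra.FormallyUnramified.of_isSeparable k K
  haveI : Subsingleton (Ω[K⁄k]) := inferInstance
  have hsurj : Function.Surjective (KaehlerDifferential.map k K C C) :=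
    KaehlerDifferential.map_surjective k K C
  have hinj : Function.Injective (KaehlerDifferential.map k K C C) := by
    rw [← LinearMap.ker_eq_bot, eq_bot_iff]
    intro x hx
    obtain ⟨y, rfl⟩ := (KaehlerDifferential.exact_mapBaseChange_map k K C x).1 hx
    have : Subsingleton (C ⊗[K] Ω[K⁄k]) := inferInstance
    rw [Subsingleton.elim y 0, map_zero]
    exact zero_mem _
  let e := LinearEquiv.ofBijective (KaehlerDifferential.map k K C C) ⟨hinj, hsurj⟩
  have h1 : ∀ x, ψ p x = exteriorPower.map p e.toLinearMap x := fun x => by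
    refine DFunLike.congr_fun (ext_of_gen (KaehlerDifferential.span_range_derivation k C)
      (ψ p) (exteriorPower.map p e.toLinearMap).toAddMonoidHom fun b₀ b => ?_) x
    rw [hψ]
    show b₀ • exteriorPower.ιMulti C p _ = exteriorPower.map p e.toLinearMap (b₀ • exteriorPower.ιMulti C p _)
    rw [map_smul, exteriorPower.map_apply_ιMulti]
    congr 2
    funext i
    exact (KaehlerDifferential.map_D k K C C (b i)).symm
  rw [show (ψ p : _ → _) = exteriorPower.map p e.toLinearMap from funext h1]
  exact ⟨exteriorPower.map_injective e.symm.toLinearMap (LinearMap.ext e.symm_apply_apply),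
    exteriorPower.map_surjective e.surjective⟩

theorem exists_baseChange_ker {k K : Type u} [Field k] [CommRing K] [Algebra k K] {M N : Type u} [AddCommGroup M]
    [Module k M] [AddCommGroup N] [Module k N] (f : M →ₗ[k] N) (z : K ⊗[k] M) (hz : f.baseChange K z = 0) :
    ∃ w, (LinearMap.ker f).subtype.baseChange K w = z :=
  (Module.Flat.lTensor_exact K (LinearMap.exact_subtype_ker_map f) z).1 hz

theorem span_cocycles_eq {k K : Type u} [Field k] [Field K] [Algebra k K]
    {C C' : Type u} [CommRing C] [CommRing C'] [Algebra k C]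
    [Algebra C C'] [Algebra k C'] [IsScalarTower k C C'] [Algebra K C'] [IsScalarTower k K C']
    [Algebra.IsPushout k K C C']
    (d : ∀ p : ℕ, ↥(⋀[C]^p (Ω[C⁄k])) →ₗ[k] ↥(⋀[C]^(p + 1) (Ω[C⁄k])))
    (d' : ∀ p : ℕ, ↥(⋀[C']^p (Ω[C'⁄K])) →ₗ[K] ↥(⋀[C']^(p + 1) (Ω[C'⁄K])))
    (ψ : ∀ p : ℕ, ↥(⋀[C]^p (Ω[C⁄k])) →+ ↥(⋀[C']^p (Ω[C'⁄K])))
    (hψ : DeRham.IsCxMap (KaehlerDifferential.D k C) (KaehlerDifferential.D K C') (algebraMap C C') ψ)
    (hcomm : ∀ (p : ℕ) (x : ↥(⋀[C]^p (Ω[C⁄k]))), ψ (p + 1) (d p x) = d' p (ψ p x))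
    (p : ℕ) :
    Submodule.span K (ψ p '' (DeRham.cocycles d p : Set ↥(⋀[C]^p (Ω[C⁄k])))) = DeRham.cocycles d' p ∧
      Submodule.span K (ψ p '' (DeRham.coboundaries d p : Set ↥(⋀[C]^p (Ω[C⁄k])))) =
        DeRham.coboundaries d' p := by
  have hlin : ∀ q, ∃ L : ↥(⋀[C]^q (Ω[C⁄k])) →ₗ[k] ↥(⋀[C']^q (Ω[C'⁄K])),
      (∀ x, L x = ψ q x) ∧ Function.Bijective (L.liftBaseChange K) := fun q => by
    obtain ⟨g, hg, -⟩ := exists_linear_cxMap q ψ hψ
    refine ⟨g.restrictScalars k, hg, baseChange_bijective ψ hψ q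
      ((g.restrictScalars k).liftBaseChange K).toAddMonoidHom fun s x => ?_⟩
    show (g.restrictScalars k).liftBaseChange K (s ⊗ₜ x) = _
    rw [LinearMap.liftBaseChange_tmul, LinearMap.restrictScalars_apply, hg]
  choose L hL hbij using hlin
  have hspan : ∀ q (S : Submodule k ↥(⋀[C]^q (Ω[C⁄k]))), Submodule.span K (ψ q '' (S : Set _)) =
      LinearMap.range ((L q).liftBaseChange K ∘ₗ S.subtype.baseChange K) := by
    intro q S
    refine le_antisymm (Submodule.span_le.2 ?_) ?_
    · rintro _ ⟨x, hx, rfl⟩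
      exact ⟨1 ⊗ₜ ⟨x, hx⟩, by simp [hL]⟩
    · rintro _ ⟨z, rfl⟩
      induction z using TensorProduct.induction_on with
      | zero => simp
      | add a b ha hb => rw [map_add]; exact add_mem ha hb
      | tmul s x =>
        show (L q).liftBaseChange K (S.subtype.baseChange K (s ⊗ₜ x)) ∈ _
        rw [LinearMap.baseChange_tmul, LinearMap.liftBaseChange_tmul]
        exact Submodule.smul_mem _ _ (Submodule.subset_span ⟨x, x.2, (hL q _).symm⟩)
  have hdd : ∀ q z, d' q ((L q).liftBaseChange K z) = (L (q + 1)).liftBaseChange K ((d q).baseChange K z) := by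
    intro q z
    induction z using TensorProduct.induction_on with
    | zero => simp
    | add a b ha hb => simp only [map_add, ha, hb]
    | tmul s x =>
      rw [LinearMap.baseChange_tmul, LinearMap.liftBaseChange_tmul, LinearMap.liftBaseChange_tmul, map_smul, hL,
        hL, hcomm]
  constructor
  · show Submodule.span K (ψ p '' (LinearMap.ker (d p) : Set _)) = LinearMap.ker (d' p)
    rw [hspan]
    refine le_antisymm ?_ fun y hy => ?_
    · rintro _ ⟨z, rfl⟩
      show d' p _ = 0
      rw [LinearMap.comp_apply, hdd]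
      have : (d p).baseChange K ((LinearMap.ker (d p)).subtype.baseChange K z) = 0 := by
        rw [← LinearMap.comp_apply, ← LinearMap.baseChange_comp,
          show d p ∘ₗ (LinearMap.ker (d p)).subtype = 0 from LinearMap.ext fun x => x.2, LinearMap.baseChange_zero,
          LinearMap.zero_apply]
      rw [this, map_zero]
    · obtain ⟨z, rfl⟩ := (hbij p).surjective y
      have hz : (d p).baseChange K z = 0 := (hbij (p + 1)).injective (by rw [map_zero, ← hdd]; exact hy)
      obtain ⟨w, hw⟩ := exists_baseChange_ker (K := K) (d p) z hz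
      exact ⟨w, congrArg ((L p).liftBaseChange K) hw⟩
  · cases p with
    | zero =>
      simp [DeRham.coboundaries]
    | succ q =>
      show Submodule.span K (ψ (q + 1) '' (LinearMap.range (d q) : Set _)) = LinearMap.range (d' q)
      rw [hspan]
      refine le_antisymm ?_ ?_
      · rintro _ ⟨z, rfl⟩
        obtain ⟨w, rfl⟩ : ∃ w, ((d q).rangeRestrict).baseChange K w = z :=
          LinearMap.lTensor_surjective K (d q).surjective_rangeRestrict z
        refine ⟨(L q).liftBaseChange K w, ?_⟩
        rw [hdd, LinearMap.comp_apply]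
        congr 1
        rw [← LinearMap.comp_apply, ← LinearMap.baseChange_comp]
        rfl
      · rintro _ ⟨y, rfl⟩
        obtain ⟨z, rfl⟩ := (hbij q).surjective y
        refine ⟨((d q).rangeRestrict).baseChange K z, ?_⟩
        rw [hdd, LinearMap.comp_apply]
        congr 1
        rw [← LinearMap.comp_apply, ← LinearMap.baseChange_comp]
        rfl

end Groth.Agent.DR15
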