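import Groth.Prelude.Def_DeRham
import Mathlib.LinearAlgebra.ExteriorAlgebra.Grading
import Mathlib.LinearAlgebra.CliffordAlgebra.Conjugation
import Mathlib.Tactic.Abel
import Mathlib.Tactic.NoncommRing

/-! The exterior derivative on an exterior algebra. -/

universe v u

noncomputable section

namespace Groth.Agent.DR15

open ExteriorAlgebra

variable {R : Type v} {A M : Type u} [CommRing R] [CommRing A] [Algebra R A]
  [AddCommGroup M] [Module A M] [Module R M]

local notation "E" => ExteriorAlgebra A M
local notation "inv'" => CliffordAlgebra.involute (R := A) (Q := (0 : QuadraticForm A M))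

/-- a differential on 1-forms compatible with the derivation `δ` -/
structure Datum (δ : Derivation R A M) where
  /-- the map on 1-forms -/
  D : M →+ ExteriorAlgebra A M
  leibniz : ∀ (a : A) (m : M), D (a • m) = ι A (δ a) * ι A m + a • D m
  mem : ∀ m, D m ∈ exteriorPower A 2 M
  closed : ∀ a : A, D (δ a) = 0
  spans : Submodule.span A (Set.range δ) = ⊤

theorem ι_mul_ι (m n : M) : ι A m * ι A n = -(ι A n * ι A m) :=
  eq_neg_of_add_eq_zero_left (ι_add_mul_swap m n)

theorem two_comm {x : E} (hx : x ∈ exteriorPower A 2 M) (m : M) : x * ι A m = ι A m * x := by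
  rw [exteriorPower, pow_two] at hx
  induction hx using Submodule.mul_induction_on' with
  | mem_mul_mem y hy z hz =>
    obtain ⟨y, rfl⟩ := hy
    obtain ⟨z, rfl⟩ := hz
    rw [mul_assoc, ι_mul_ι z m, mul_neg, ← mul_assoc, ι_mul_ι y m, neg_mul, neg_neg, mul_assoc]
  | add y _ z _ hy hz => rw [add_mul, mul_add, hy, hz]

variable {δ : Derivation R A M}

/-- `E × E` with the twisted action of `A` -/
def W (_δ : Derivation R A M) : Type u := ExteriorAlgebra A M × ExteriorAlgebra A M

instance : AddCommGroup (W δ) := inferInstanceAs (AddCommGroup (ExteriorAlgebra A M × ExteriorAlgebra A M))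

/-- pairs as elements of `W` -/
def mkW (x y : ExteriorAlgebra A M) : W δ := (x, y)

instance : SMul A (W δ) := ⟨fun a w => ((a • w.1, a • w.2 + ι A (δ a) * w.1) : E × E)⟩

@[simp] theorem smul_fst (a : A) (w : W δ) : (a • w : W δ).1 = a • w.1 := rfl
@[simp] theorem smul_snd (a : A) (w : W δ) : (a • w : W δ).2 = a • w.2 + ι A (δ a) * w.1 := rfl
@[simp] theorem add_fst (v w : W δ) : (v + w : W δ).1 = v.1 + w.1 := rfl
@[simp] theorem add_snd (v w : W δ) : (v + w : W δ).2 = v.2 + w.2 := rfl
@[simp] theorem zero_fst : (0 : W δ).1 = 0 := rfl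
@[simp] theorem zero_snd : (0 : W δ).2 = 0 := rfl

instance : Module A (W δ) where
  one_smul w := by refine Prod.ext ?_ ?_ <;> simp
  mul_smul a b w := by
    refine Prod.ext ?_ ?_
    · simp [mul_smul]
    · simp only [smul_snd, smul_fst, Derivation.leibniz, map_add, map_smul, add_mul, smul_mul_assoc,
        mul_smul_comm, mul_smul, smul_add]
      abel
  smul_zero a := by refine Prod.ext ?_ ?_ <;> simp
  smul_add a v w := by
    refine Prod.ext ?_ ?_
    · simp
    · simp [mul_add]; abel
  add_smul a b w := by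
    refine Prod.ext ?_ ?_
    · simp [add_smul]
    · simp [add_smul, add_mul]; abel
  zero_smul w := by refine Prod.ext ?_ ?_ <;> simp

variable (P : Datum δ)

/-- left multiplication by a 1-form, lifted to `W` -/
def fMap : M →ₗ[A] Module.End A (W δ) where
  toFun m :=
    { toFun := fun w => ((ι A m * w.1, P.D m * w.1 - ι A m * w.2) : E × E)
      map_add' := fun v w => by
        refine Prod.ext ?_ ?_
        · exact mul_add _ _ _
        · show P.D m * (v.1 + w.1) - ι A m * (v.2 + w.2) = _
          rw [mul_add, mul_add]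
          show _ = (P.D m * v.1 - ι A m * v.2) + (P.D m * w.1 - ι A m * w.2)
          abel
      map_smul' := fun a w => by
        refine Prod.ext ?_ ?_
        · exact mul_smul_comm a _ _
        · show P.D m * (a • w.1) - ι A m * (a • w.2 + ι A (δ a) * w.1) =
            a • (P.D m * w.1 - ι A m * w.2) + ι A (δ a) * (ι A m * w.1)
          rw [mul_smul_comm, mul_add, mul_smul_comm, ← mul_assoc, ι_mul_ι m (δ a), neg_mul, mul_assoc, smul_sub]
          abel }
  map_add' m n := by
    ext w : 1
    refine Prod.ext ?_ ?_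
    · show ι A (m + n) * w.1 = _
      rw [map_add, add_mul]; rfl
    · show P.D (m + n) * w.1 - ι A (m + n) * w.2 = (P.D m * w.1 - ι A m * w.2) + (P.D n * w.1 - ι A n * w.2)
      rw [map_add, map_add, add_mul, add_mul]; abel
  map_smul' a m := by
    ext w : 1
    refine Prod.ext ?_ ?_
    · show ι A (a • m) * w.1 = a • (ι A m * w.1)
      rw [map_smul, smul_mul_assoc]
    · show P.D (a • m) * w.1 - ι A (a • m) * w.2 =
        a • (P.D m * w.1 - ι A m * w.2) + ι A (δ a) * (ι A m * w.1)
      rw [(ι A).map_smul, P.leibniz, add_mul, smul_mul_assoc, smul_mul_assoc, mul_assoc, smul_sub]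
      abel

theorem fMap_sq (m : M) : fMap P m * fMap P m = 0 := by
  ext w : 1
  refine Prod.ext ?_ ?_
  · show ι A m * (ι A m * w.1) = 0
    rw [← mul_assoc, ι_sq_zero, zero_mul]
  · show P.D m * (ι A m * w.1) - ι A m * (P.D m * w.1 - ι A m * w.2) = 0
    rw [mul_sub, ← mul_assoc, ← mul_assoc, ← mul_assoc, two_comm (P.mem m), ι_sq_zero, zero_mul, sub_zero,
      sub_self]

/-- the lift to `W` -/
def lft : E →ₐ[A] Module.End A (W δ) := ExteriorAlgebra.lift A ⟨fMap P, fMap_sq P⟩

/-- `x ↦ (x, dx)` -/
def pair : E →ₗ[A] W δ :=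
  (LinearMap.applyₗ (mkW (1 : E) (0 : E))).comp (lft P).toLinearMap

theorem pair_algebraMap (a : A) : pair P (algebraMap A E a) = mkW (algebraMap A E a) (ι A (δ a)) := by
  show lft P (algebraMap A E a) (mkW (1 : E) (0 : E)) = _
  rw [AlgHom.commutes, Module.algebraMap_end_apply]
  refine Prod.ext ?_ ?_
  · exact (Algebra.algebraMap_eq_smul_one a).symm
  · show a • (0 : E) + ι A (δ a) * 1 = _
    rw [smul_zero, zero_add, mul_one]; rfl

theorem pair_ι_mul (m : M) (x : E) : pair P (ι A m * x) = fMap P m (pair P x) := by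
  show lft P (ι A m * x) _ = _
  rw [map_mul, lft, lift_ι_apply]
  rfl

theorem pair_fst (x : E) : (pair P x).1 = x := by
  suffices h : ∀ (x : E) (w : W δ), (lft P x w).1 = x * w.1 from (h x _).trans (mul_one x)
  intro x
  induction x using ExteriorAlgebra.induction with
  | algebraMap r => intro w; rw [AlgHom.commutes, Module.algebraMap_end_apply, smul_fst, Algebra.smul_def]
  | ι m => intro w; rw [lft, lift_ι_apply]; rfl
  | mul a b ha hb => intro w; rw [map_mul, Module.End.mul_apply, ha, hb, mul_assoc]
  | add a b ha hb => intro w; rw [map_add, LinearMap.add_apply, add_fst, ha, hb, add_mul]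

/-- the exterior derivative -/
def d0 : E →+ E where
  toFun x := (pair P x).2
  map_zero' := by rw [map_zero]; rfl
  map_add' x y := by rw [map_add]; rfl

theorem d0_algebraMap (a : A) : d0 P (algebraMap A E a) = ι A (δ a) := by
  show (pair P _).2 = _
  rw [pair_algebraMap]; rfl

theorem d0_smul (a : A) (x : E) : d0 P (a • x) = ι A (δ a) * x + a • d0 P x := by
  show (pair P _).2 = _
  rw [map_smul, smul_snd, pair_fst, add_comm]
  rfl

theorem d0_ι_mul (m : M) (x : E) : d0 P (ι A m * x) = P.D m * x - ι A m * d0 P x := by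
  show (pair P _).2 = _
  rw [pair_ι_mul]
  show P.D m * (pair P x).1 - ι A m * _ = _
  rw [pair_fst]; rfl

theorem d0_one : d0 P 1 = 0 := by
  rw [← map_one (algebraMap A E), d0_algebraMap, δ.map_one_eq_zero, map_zero]

theorem d0_ι (m : M) : d0 P (ι A m) = P.D m := by
  rw [← mul_one (ι A m), d0_ι_mul, d0_one, mul_zero, sub_zero, mul_one]

theorem d0_mul (x y : E) : d0 P (x * y) = d0 P x * y + inv' x * d0 P y := by
  induction x using ExteriorAlgebra.induction generalizing y with
  | algebraMap r =>
    rw [← Algebra.smul_def, d0_smul, d0_algebraMap, AlgHom.commutes, ← Algebra.smul_def]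
  | ι m =>
    rw [d0_ι_mul, d0_ι, CliffordAlgebra.involute_ι, neg_mul, sub_eq_add_neg]
  | mul a b ha hb =>
    rw [mul_assoc, ha, hb, ha b, map_mul, mul_add, add_mul, mul_assoc, mul_assoc, mul_assoc, add_assoc]
  | add a b ha hb =>
    rw [add_mul, map_add, map_add, map_add, ha, hb, add_mul, add_mul]
    abel

theorem inv_two {x : E} (hx : x ∈ exteriorPower A 2 M) : inv' x = x := by
  rw [exteriorPower, pow_two] at hx
  induction hx using Submodule.mul_induction_on' with
  | mem_mul_mem y hy z hz =>
    obtain ⟨y, rfl⟩ := hy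
    obtain ⟨z, rfl⟩ := hz
    rw [map_mul, CliffordAlgebra.involute_ι, CliffordAlgebra.involute_ι, neg_mul_neg]
  | add y _ z _ hy hz => rw [map_add, hy, hz]

theorem inv_d0 (x : E) : inv' (d0 P x) = -d0 P (inv' x) := by
  induction x using ExteriorAlgebra.induction with
  | algebraMap r => rw [d0_algebraMap, AlgHom.commutes, d0_algebraMap, CliffordAlgebra.involute_ι]
  | ι m => rw [d0_ι, CliffordAlgebra.involute_ι, map_neg, d0_ι, neg_neg, inv_two (P.mem m)]
  | mul a b ha hb =>
    rw [map_mul inv', d0_mul, d0_mul, map_add, map_mul inv', map_mul inv', ha, hb, CliffordAlgebra.involute_involute, neg_mul,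
      mul_neg, neg_add]
  | add a b ha hb => rw [map_add, map_add, map_add, map_add, ha, hb, neg_add]

theorem d0_D (m : M) : d0 P (P.D m) = 0 := by
  have hm : m ∈ Submodule.span A (Set.range δ) := by rw [P.spans]; exact Submodule.mem_top
  suffices h : ∀ a : A, d0 P (P.D (a • m)) = 0 by simpa using h 1
  induction hm using Submodule.span_induction with
  | mem x hx =>
    obtain ⟨b, rfl⟩ := hx
    intro a
    rw [P.leibniz, P.closed, smul_zero, add_zero, d0_ι_mul, P.closed, zero_mul, d0_ι, P.closed, mul_zero, sub_zero]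
  | zero => intro a; rw [smul_zero, map_zero, map_zero]
  | add x y _ _ hx hy => intro a; rw [smul_add, map_add, map_add, hx, hy, add_zero]
  | smul c x _ hx => intro a; rw [smul_smul]; exact hx _

theorem d0_d0 (x : E) : d0 P (d0 P x) = 0 := by
  induction x using ExteriorAlgebra.induction with
  | algebraMap r => rw [d0_algebraMap, d0_ι, P.closed]
  | ι m => rw [d0_ι, d0_D]
  | mul a b ha hb =>
    rw [d0_mul, map_add, d0_mul, d0_mul, ha, hb, CliffordAlgebra.involute_involute, inv_d0, zero_mul, mul_zero]
    rw [zero_add, add_zero, neg_mul, neg_add_cancel]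
  | add a b ha hb => rw [map_add, map_add, ha, hb, add_zero]

theorem d0_mem {p : ℕ} {x : E} (hx : x ∈ exteriorPower A p M) : d0 P x ∈ exteriorPower A (p + 1) M := by
  induction p generalizing x with
  | zero =>
    rw [exteriorPower, pow_zero] at hx
    obtain ⟨a, rfl⟩ := Submodule.mem_one.1 hx
    rw [d0_algebraMap, exteriorPower, pow_one]
    exact LinearMap.mem_range_self _ _
  | succ p ih =>
    rw [exteriorPower, pow_succ'] at hx
    induction hx using Submodule.mul_induction_on' with
    | mem_mul_mem y hy z hz =>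
      obtain ⟨y, rfl⟩ := hy
      rw [d0_ι_mul]
      refine sub_mem ?_ ?_
      · have := Submodule.mul_mem_mul (P.mem y) hz
        rw [exteriorPower, ← pow_add] at this
        rwa [exteriorPower, show p + 1 + 1 = 2 + p by omega]
      · rw [exteriorPower, pow_succ']
        exact Submodule.mul_mem_mul (LinearMap.mem_range_self _ _) (ih hz)
    | add y _ z _ hy hz => rw [map_add]; exact add_mem hy hz

theorem inv_mem {p : ℕ} {x : E} (hx : x ∈ exteriorPower A p M) : inv' x = (-1) ^ p * x := by
  induction p generalizing x with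
  | zero =>
    rw [exteriorPower, pow_zero] at hx
    obtain ⟨a, rfl⟩ := Submodule.mem_one.1 hx
    rw [AlgHom.commutes, pow_zero, one_mul]
  | succ p ih =>
    rw [exteriorPower, pow_succ'] at hx
    induction hx using Submodule.mul_induction_on' with
    | mem_mul_mem y hy z hz =>
      obtain ⟨y, rfl⟩ := hy
      rw [map_mul, CliffordAlgebra.involute_ι, ih hz, neg_mul, ← mul_assoc,
        ((Commute.neg_one_left (ι A y)).pow_left p).symm.eq, mul_assoc, pow_succ, mul_neg_one, neg_mul]
    | add y _ z _ hy hz => rw [map_add, hy, hz, mul_add]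

section Tower

variable [IsScalarTower R A M]

/-- the exterior derivative as an `R`-linear map -/
def dT : E →ₗ[R] E where
  toFun := d0 P
  map_add' := (d0 P).map_add
  map_smul' r x := by
    rw [← IsScalarTower.algebraMap_smul A r x, d0_smul, δ.map_algebraMap, map_zero, zero_mul, zero_add,
      IsScalarTower.algebraMap_smul, RingHom.id_apply]

theorem dT_apply (x : E) : dT P x = d0 P x := rfl

theorem d0_ιMulti : ∀ {p : ℕ} (b : Fin p → A), d0 P (ιMulti A p fun i => δ (b i)) = 0
  | 0, b => by rw [ιMulti_zero_apply, d0_one]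
  | p + 1, b => by
    rw [ιMulti_succ_apply, d0_ι_mul, P.closed, zero_mul,
      show Matrix.vecTail (fun i => δ (b i)) = fun i => δ (b i.succ) from rfl, d0_ιMulti, mul_zero, sub_zero]

/-- the de Rham differential in degree `p` -/
def dp (p : ℕ) : ↥(⋀[A]^p M) →ₗ[R] ↥(⋀[A]^(p + 1) M) where
  toFun x := ⟨d0 P x.1, d0_mem P x.2⟩
  map_add' x y := Subtype.ext ((d0 P).map_add x.1 y.1)
  map_smul' r x := Subtype.ext ((dT P).map_smul r x.1)

theorem isRule_dp : DeRham.IsRule δ (dp P) := fun p b₀ b => by
  refine Subtype.ext ?_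
  show d0 P (b₀ • ExteriorAlgebra.ιMulti A p fun i => δ (b i)) = ExteriorAlgebra.ιMulti A (p + 1) _
  rw [d0_smul, d0_ιMulti, smul_zero, add_zero, ιMulti_succ_apply]
  rfl

theorem isDiff_dp : DeRham.IsDiff δ (dp P) :=
  ⟨isRule_dp P, fun p => LinearMap.ext fun x => Subtype.ext (d0_d0 P x.1)⟩

end Tower

omit [Module R M] in
theorem addMonoidHom_ext_gen {M' : Type*} [AddCommGroup M'] {s : Set M} (hs : Submodule.span A s = ⊤) {p : ℕ}
    (f g : ↥(⋀[A]^p M) →+ M')
    (h : ∀ (b₀ : A) (v : Fin p → M), Set.range v ⊆ s →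
      f (b₀ • exteriorPower.ιMulti A p v) = g (b₀ • exteriorPower.ιMulti A p v)) : f = g := by
  ext x
  suffices H : ∀ c : A, f (c • x) = g (c • x) by simpa using H 1
  have hx : x ∈ Submodule.span A (exteriorPower.ιMulti A p '' {a | Set.range a ⊆ s}) := by
    rw [exteriorPower.ιMulti_span_of_span A p M hs]; exact Submodule.mem_top
  induction hx using Submodule.span_induction with
  | mem y hy =>
    obtain ⟨v, hv, rfl⟩ := hy
    intro c
    exact h c v hv
  | zero => intro c; rw [smul_zero, map_zero, map_zero]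
  | add y z _ _ hy hz => intro c; rw [smul_add, map_add, map_add, hy, hz]
  | smul a y _ hy => intro c; rw [smul_smul]; exact hy _

theorem ext_of_gen {M' : Type*} [AddCommGroup M'] (hs : Submodule.span A (Set.range δ) = ⊤) {p : ℕ}
    (f g : ↥(⋀[A]^p M) →+ M')
    (h : ∀ (b₀ : A) (b : Fin p → A), f (DeRham.gen δ p b₀ b) = g (DeRham.gen δ p b₀ b)) : f = g := by
  refine addMonoidHom_ext_gen hs f g fun b₀ v hv => ?_
  choose b hb using fun i => hv ⟨i, rfl⟩
  rw [show v = fun i => δ (b i) from funext fun i => (hb i).symm]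
  exact h b₀ b

theorem rule_unique [IsScalarTower R A M] (hs : Submodule.span A (Set.range δ) = ⊤)
    {d d' : ∀ p : ℕ, ↥(⋀[A]^p M) →ₗ[R] ↥(⋀[A]^(p + 1) M)} (hd : DeRham.IsRule δ d) (hd' : DeRham.IsRule δ d') :
    d = d' := by
  funext p
  refine LinearMap.toAddMonoidHom_injective (ext_of_gen hs _ _ fun b₀ b => ?_)
  exact (hd p b₀ b).trans (hd' p b₀ b).symm

end Groth.Agent.DR15
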