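import Groth.Prelude.Def_DeRham
import Groth.Agent.DR15.Basic
import Mathlib.LinearAlgebra.ExteriorPower.Basis
import Mathlib.LinearAlgebra.CliffordAlgebra.Contraction
import Mathlib.RingTheory.MvPowerSeries.Derivative

/-!
# The formal Poincaré lemma

The Euler vector field acts on forms of positive degree by positive integers on every monomial.
-/

set_option autoImplicit false
set_option linter.unusedSectionVars false

universe u

noncomputable section

namespace Groth.Agent.DR15.Formal

open ExteriorAlgebra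

variable {k : Type u} [Field k] [CharZero k] {σ : Type u} [Fintype σ] [LinearOrder σ]

local notation "A" => MvPowerSeries σ k
local notation "M" => σ → MvPowerSeries σ k
local notation "EA" => ExteriorAlgebra (MvPowerSeries σ k) (σ → MvPowerSeries σ k)

variable (k σ) in
/-- Pairing with the Euler vector field. -/
def θ : M →ₗ[A] A := Fintype.linearCombination A fun i => (MvPowerSeries.X i : A)

variable (k σ) in
/-- Contraction with the Euler vector field. -/
def cont : EA →ₗ[A] EA := CliffordAlgebra.contractLeft (R := A) (θ k σ)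

theorem cont_ι_mul (m : M) (x : EA) : cont k σ (ι A m * x) = θ k σ m • x - ι A m * cont k σ x :=
  CliffordAlgebra.contractLeft_ι_mul (θ k σ) m x

theorem cont_mem : ∀ (p : ℕ) {x : EA}, x ∈ exteriorPower A (p + 1) M → cont k σ x ∈ exteriorPower A p M := by
  intro p
  induction p with
  | zero =>
    intro x hx
    rw [exteriorPower, zero_add, pow_one] at hx
    obtain ⟨m, rfl⟩ := hx
    have h1 : cont k σ (1 : EA) = 0 := by
      rw [← map_one (algebraMap A EA)]; exact CliffordAlgebra.contractLeft_algebraMap _ _ _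
    rw [← mul_one (ι A m), cont_ι_mul, h1, mul_zero, sub_zero, exteriorPower, pow_zero]
    exact Submodule.smul_mem _ _ (Submodule.mem_one.2 ⟨1, map_one _⟩)
  | succ p ih =>
    intro x hx
    rw [exteriorPower, pow_succ'] at hx
    induction hx using Submodule.mul_induction_on' with
    | mem_mul_mem y hy z hz =>
      obtain ⟨y, rfl⟩ := hy
      rw [cont_ι_mul]
      refine sub_mem (Submodule.smul_mem _ _ hz) ?_
      rw [exteriorPower, pow_succ']
      exact Submodule.mul_mem_mul (LinearMap.mem_range_self _ _) (ih hz)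
    | add y _ z _ hy hz => rw [map_add]; exact add_mem hy hz

/-- Contraction in a fixed degree. -/
def cp (p : ℕ) : ↥(⋀[A]^(p + 1) M) →ₗ[A] ↥(⋀[A]^p M) :=
  ((cont k σ).comp (Submodule.subtype _)).codRestrict _ fun x => cont_mem p x.2

theorem coe_cp (p : ℕ) (x : ↥(⋀[A]^(p + 1) M)) : (cp p x : EA) = cont k σ x := rfl

variable (δ : Derivation k (MvPowerSeries σ k) (σ → MvPowerSeries σ k))
  (hδ : ∀ (f : MvPowerSeries σ k) (i : σ), δ f i = MvPowerSeries.pderiv k i f)
  (hgen : Submodule.span (MvPowerSeries σ k) (Set.range δ) = ⊤)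
  (d : ∀ p : ℕ, ↥(⋀[MvPowerSeries σ k]^p (σ → MvPowerSeries σ k)) →ₗ[k]
    ↥(⋀[MvPowerSeries σ k]^(p + 1) (σ → MvPowerSeries σ k))) (hd : DeRham.IsDiff δ d)

include hgen hd in
theorem d_smul {p : ℕ} (a : A) (x : ↥(⋀[A]^p M)) :
    (d p (a • x) : EA) = ι A (δ a) * (x : EA) + a • (d p x : EA) := by
  let F : ↥(⋀[A]^p M) →+ EA := AddMonoidHom.mk' (fun x => (d p (a • x) : EA)) fun x y => by
    simp [smul_add, map_add]
  let G : ↥(⋀[A]^p M) →+ EA := AddMonoidHom.mk' (fun x => ι A (δ a) * (x : EA) + a • (d p x : EA)) fun x y => by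
    simp only [map_add, Submodule.coe_add, mul_add, smul_add]; abel
  refine DFunLike.congr_fun (ext_of_gen hgen F G fun b₀ b => ?_) x
  show (d p (a • DeRham.gen δ p b₀ b) : EA) = ι A (δ a) * (DeRham.gen δ p b₀ b : EA) + a • (d p (DeRham.gen δ p b₀ b) : EA)
  have e : a • DeRham.gen δ p b₀ b = DeRham.gen δ p (a * b₀) b := smul_smul a b₀ _
  rw [e, hd.1 p (a * b₀) b, hd.1 p b₀ b]
  simp only [exteriorPower.ιMulti_apply_coe, ExteriorAlgebra.ιMulti_succ_apply, Fin.cons_zero,
    DeRham.gen, Submodule.coe_smul, Matrix.vecTail, Function.comp_def, Fin.cons_succ]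
  rw [Derivation.leibniz, map_add, map_smul, map_smul, add_mul, smul_mul_assoc, smul_mul_assoc, mul_smul_comm,
    add_comm]

/-- Multiplication by an exact one-form. -/
def w (p : ℕ) (c : A) : ↥(⋀[A]^p M) →ₗ[A] ↥(⋀[A]^(p + 1) M) :=
  ((LinearMap.mulLeft A (ι A (δ c))).comp (Submodule.subtype _)).codRestrict _ fun x => by
    show ι A (δ c) * (x : EA) ∈ _
    rw [exteriorPower, pow_succ']
    exact Submodule.mul_mem_mul (LinearMap.mem_range_self _ _) x.2

theorem coe_w (p : ℕ) (c : A) (x : ↥(⋀[A]^p M)) : (w δ p c x : EA) = ι A (δ c) * (x : EA) := rfl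

include hgen hd in
theorem d_w {p : ℕ} (c : A) (x : ↥(⋀[A]^p M)) :
    (d (p + 1) (w δ p c x) : EA) = -(ι A (δ c) * (d p x : EA)) := by
  let F : ↥(⋀[A]^p M) →+ EA := AddMonoidHom.mk' (fun x => (d (p + 1) (w δ p c x) : EA)) fun x y => by
    simp [map_add]
  let G : ↥(⋀[A]^p M) →+ EA := AddMonoidHom.mk' (fun x => -(ι A (δ c) * (d p x : EA))) fun x y => by
    simp only [map_add, Submodule.coe_add, mul_add, neg_add]
  refine DFunLike.congr_fun (ext_of_gen hgen F G fun b₀ b => ?_) x
  show (d (p + 1) (w δ p c (DeRham.gen δ p b₀ b)) : EA) = -(ι A (δ c) * (d p (DeRham.gen δ p b₀ b) : EA))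
  have e : w δ p c (DeRham.gen δ p b₀ b) = DeRham.gen δ (p + 1) b₀ (Fin.cons c b) := by
    refine Subtype.ext ?_
    simp only [coe_w, DeRham.gen, Submodule.coe_smul, exteriorPower.ιMulti_apply_coe,
      ExteriorAlgebra.ιMulti_succ_apply, Fin.cons_zero, Matrix.vecTail, Function.comp_def, Fin.cons_succ, mul_smul_comm]
  rw [e, hd.1, hd.1]
  simp only [exteriorPower.ιMulti_apply_coe, ExteriorAlgebra.ιMulti_succ_apply, Fin.cons_zero, Matrix.vecTail,
    Function.comp_def, Fin.cons_succ]
  rw [← mul_assoc, ← mul_assoc, ι_mul_ι, neg_mul]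

/-- The constant form of a tuple of coordinates. -/
def mono {p : ℕ} (v : Fin p → σ) : ↥(⋀[A]^p M) := exteriorPower.ιMulti A p fun j => δ (MvPowerSeries.X (v j))

include hd in
theorem d_mono {p : ℕ} (v : Fin p → σ) : d p (mono δ v) = 0 := by
  have h := hd.1 p 1 (fun j => MvPowerSeries.X (v j))
  rw [DeRham.gen, one_smul] at h
  rw [mono, h, δ.map_one_eq_zero]
  exact (exteriorPower.ιMulti A (p + 1)).map_coord_zero 0 (by simp)

include hδ in
theorem θ_δX (i : σ) : θ k σ (δ (MvPowerSeries.X i)) = MvPowerSeries.X i := by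
  classical
  simp [θ, Fintype.linearCombination_apply, hδ, MvPowerSeries.pderiv_X, Pi.single_apply]

include hδ hgen hd in
theorem d_cp_mono : ∀ {p : ℕ} (v : Fin (p + 1) → σ),
    (d p (cp p (mono δ v)) : EA) = ((p + 1 : ℕ) : A) • (mono δ v : EA) := by
  intro p
  induction p with
  | zero =>
    intro v
    have e : cp 0 (mono δ v) = (MvPowerSeries.X (v 0) : A) • mono δ (Fin.tail v) := by
      refine Subtype.ext ?_
      rw [coe_cp, Submodule.coe_smul, mono, mono, exteriorPower.ιMulti_apply_coe, exteriorPower.ιMulti_apply_coe,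
        ExteriorAlgebra.ιMulti_succ_apply, ExteriorAlgebra.ιMulti_zero_apply, ExteriorAlgebra.ιMulti_zero_apply,
        cont_ι_mul, θ_δX δ hδ, ← map_one (algebraMap A EA)]
      rw [show cont k σ (algebraMap A EA 1) = 0 from CliffordAlgebra.contractLeft_algebraMap _ _ _, mul_zero, sub_zero]
    rw [e, d_smul δ hgen d hd, d_mono δ d hd]
    simp [mono, ExteriorAlgebra.ιMulti_succ_apply]
  | succ p ih =>
    intro v
    have hsplit : (mono δ v : EA) = ι A (δ (MvPowerSeries.X (v 0))) * (mono δ (Fin.tail v) : EA) := by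
      rw [mono, mono, exteriorPower.ιMulti_apply_coe, exteriorPower.ιMulti_apply_coe,
        ExteriorAlgebra.ιMulti_succ_apply]
      rfl
    have e : cp (p + 1) (mono δ v) = (MvPowerSeries.X (v 0) : A) • mono δ (Fin.tail v) -
        w δ p (MvPowerSeries.X (v 0)) (cp p (mono δ (Fin.tail v))) := by
      refine Subtype.ext ?_
      rw [coe_cp, hsplit, cont_ι_mul, θ_δX δ hδ]
      rfl
    rw [e, map_sub, Submodule.coe_sub, d_smul δ hgen d hd, d_mono δ d hd, d_w δ hgen d hd, ih, hsplit]
    simp only [Submodule.coe_zero, smul_zero, add_zero, mul_smul_comm, sub_neg_eq_add]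
    rw [show ((p + 1 + 1 : ℕ) : A) = 1 + ((p + 1 : ℕ) : A) by push_cast; ring, add_smul, one_smul]

/-- The Lie derivative along the Euler field. -/
def lie (p : ℕ) : ↥(⋀[A]^(p + 1) M) →+ ↥(⋀[A]^(p + 1) M) :=
  (d p).toAddMonoidHom.comp (cp p).toAddMonoidHom + (cp (p + 1)).toAddMonoidHom.comp (d (p + 1)).toAddMonoidHom

theorem lie_apply (p : ℕ) (x : ↥(⋀[A]^(p + 1) M)) : lie d p x = d p (cp p x) + cp (p + 1) (d (p + 1) x) := rfl

/-- The action on coefficients. -/
def T (n : ℕ) (f : A) : A := θ k σ (δ f) + (n : A) * f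

include hδ in
theorem coeff_T (n : ℕ) (f : A) (m : σ →₀ ℕ) :
    MvPowerSeries.coeff m (T δ n f) = (((∑ i, m i) + n : ℕ) : k) * MvPowerSeries.coeff m f := by
  classical
  rw [T, map_add, θ, Fintype.linearCombination_apply, map_sum, Nat.cast_add, Nat.cast_sum, add_mul, Finset.sum_mul]
  congr 1
  · refine Finset.sum_congr rfl fun i _ => ?_
    rw [hδ, smul_eq_mul, mul_comm, MvPowerSeries.X_def, MvPowerSeries.coeff_monomial_mul, one_mul]
    split_ifs with h
    · rw [MvPowerSeries.coeff_pderiv, tsub_add_cancel_of_le h]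
      have hi : 1 ≤ m i := by simpa using h i
      rw [Finsupp.tsub_apply, Finsupp.single_eq_same, Nat.cast_sub hi, Nat.cast_one, sub_add_cancel, mul_comm]
    · have hi : m i = 0 := by
        by_contra hi
        exact h (Finsupp.single_le_iff.2 (Nat.one_le_iff_ne_zero.2 hi))
      rw [hi, Nat.cast_zero, zero_mul]
  · rw [← map_natCast (MvPowerSeries.C (σ := σ) (R := k)), MvPowerSeries.coeff_C_mul]

include hδ hgen hd in
theorem lie_smul_mono {p : ℕ} (f : A) (v : Fin (p + 1) → σ) :
    lie d p (f • mono δ v) = T δ (p + 1) f • mono δ v := by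
  refine Subtype.ext ?_
  rw [lie_apply, Submodule.coe_add, coe_cp (p + 1), map_smul, d_smul δ hgen d hd, d_cp_mono δ hδ hgen d hd, coe_cp,
    d_smul δ hgen d hd, d_mono δ d hd, Submodule.coe_zero, smul_zero, add_zero, cont_ι_mul, Submodule.coe_smul,
    smul_smul, T, add_smul, mul_comm f]
  abel

include hδ hgen hd in
/-- Closed forms of positive degree are exact. -/
theorem cocycles_le (p : ℕ) : DeRham.cocycles d (p + 1) ≤ DeRham.coboundaries d (p + 1) := by
  classical
  let b : Module.Basis σ A M := Pi.basisFun A σ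
  have hb : ∀ i, δ (MvPowerSeries.X i) = b i := fun i => funext fun j => by
    rw [hδ, MvPowerSeries.pderiv_X, Pi.basisFun_apply]
    simp [Pi.single_apply, eq_comm]
  let e : ∀ (q : ℕ), Module.Basis (Set.powersetCard σ q) A ↥(⋀[A]^q M) := fun q => b.exteriorPower q
  have he : ∀ (q : ℕ) (s : Set.powersetCard σ q), e q s = mono δ (fun j => Set.powersetCard.ofFinEmbEquiv.symm s j) := by
    intro q s
    show b.exteriorPower q s = _
    rw [exteriorPower.basis_apply, exteriorPower.ιMulti_family, mono]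
    simp only [hb]
    rfl
  have hlie : ∀ (q : ℕ) (x : ↥(⋀[A]^(q + 1) M)) (s : Set.powersetCard σ (q + 1)),
      (e (q + 1)).repr (lie d q x) s = T δ (q + 1) ((e (q + 1)).repr x s) := by
    intro q x s
    conv_lhs => rw [← (e (q + 1)).sum_repr x]
    rw [map_sum]
    have : ∀ t, lie d q ((e (q + 1)).repr x t • e (q + 1) t) = T δ (q + 1) ((e (q + 1)).repr x t) • e (q + 1) t :=
      fun t => by rw [he]; exact lie_smul_mono δ hδ hgen d hd _ _
    simp only [this]
    rw [Module.Basis.repr_sum_self]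
  intro ω hω
  have hω' : d (p + 1) ω = 0 := hω
  let g : Set.powersetCard σ (p + 1) → A := fun s m =>
    (((∑ i, m i) + (p + 1) : ℕ) : k)⁻¹ * MvPowerSeries.coeff m ((e (p + 1)).repr ω s)
  let η := ∑ s, g s • e (p + 1) s
  have hη : lie d p η = ω := by
    refine (e (p + 1)).repr.injective (Finsupp.ext fun s => ?_)
    rw [hlie, Module.Basis.repr_sum_self]
    refine MvPowerSeries.ext fun m => ?_
    rw [coeff_T δ hδ, MvPowerSeries.coeff_apply (g s) m]
    rw [← mul_assoc, mul_inv_cancel₀ (Nat.cast_ne_zero.2 (by omega)), one_mul]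
  have hdd : ∀ q x, d (q + 1) (d q x) = 0 := fun q x => DFunLike.congr_fun (hd.2 q) x
  have hcomm : lie d (p + 1) (d (p + 1) η) = d (p + 1) (lie d p η) := by
    rw [lie_apply, lie_apply, map_add, hdd, hdd, map_zero, zero_add, add_zero]
  rw [hη, hω'] at hcomm
  have hclosed : d (p + 1) η = 0 := by
    refine (e (p + 2)).repr.injective (Finsupp.ext fun s => ?_)
    have h := hlie (p + 1) (d (p + 1) η) s
    rw [hcomm, map_zero, Finsupp.zero_apply] at h
    refine MvPowerSeries.ext fun m => ?_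
    have h2 := congrArg (MvPowerSeries.coeff m) h
    rw [map_zero, coeff_T δ hδ] at h2
    rw [map_zero, Finsupp.zero_apply, map_zero]
    exact (mul_eq_zero.1 h2.symm).resolve_left (Nat.cast_ne_zero.2 (by omega))
  refine ⟨cp p η, ?_⟩
  rw [← hη, lie_apply, hclosed, map_zero, add_zero]

end Groth.Agent.DR15.Formal
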