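import Mathlib
import Groth.Agent.DR15.Kaehler
import Groth.Agent.DR15.CxMap

/-! Cartan homotopy for a derivation acting semisimply with natural weights. -/

set_option autoImplicit false

universe u

noncomputable section

namespace Groth.Agent.DR15

open ExteriorAlgebra

variable {R A : Type u} [CommRing R] [CommRing A] [Algebra R A] (θ : Derivation R A A)

local notation "Ω" => KaehlerDifferential R A
local notation "E" => ExteriorAlgebra A (KaehlerDifferential R A)
local notation "𝑫" => KaehlerDifferential.D R A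

/-- contraction with a vector field -/
def cont : E →ₗ[A] E := CliffordAlgebra.contractLeft (R := A) θ.liftKaehlerDifferential

theorem cont_ι_mul (m : Ω) (x : E) :
    cont θ (ι A m * x) = θ.liftKaehlerDifferential m • x - ι A m * cont θ x :=
  CliffordAlgebra.contractLeft_ι_mul θ.liftKaehlerDifferential m x

theorem cont_algebraMap (a : A) : cont θ (algebraMap A E a) = 0 :=
  CliffordAlgebra.contractLeft_algebraMap _ _ a

theorem cont_mem : ∀ (p : ℕ) {x : E}, x ∈ exteriorPower A (p + 1) Ω → cont θ x ∈ exteriorPower A p Ω := by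
  intro p
  induction p with
  | zero =>
    intro x hx
    rw [exteriorPower, zero_add, pow_one] at hx
    obtain ⟨m, rfl⟩ := hx
    rw [← mul_one (ι A m), cont_ι_mul, ← map_one (algebraMap A E), cont_algebraMap, mul_zero, sub_zero,
      exteriorPower, pow_zero]
    exact Submodule.smul_mem _ _ (Submodule.mem_one.2 ⟨1, rfl⟩)
  | succ p ih =>
    intro x hx
    rw [exteriorPower, pow_succ'] at hx
    induction hx using Submodule.mul_induction_on' with
    | mem_mul_mem y hy z hz =>
      obtain ⟨y, rfl⟩ := hy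
      rw [cont_ι_mul]
      refine sub_mem (Submodule.smul_mem _ _ hz) ?_
      rw [exteriorPower, pow_succ']
      exact Submodule.mul_mem_mul (LinearMap.mem_range_self _ _) (ih hz)
    | add y _ z _ hy hz => rw [map_add]; exact add_mem hy hz

/-- the Lie derivative -/
def lie : Module.End R E :=
  dT (kDatum R A) ∘ₗ (cont θ).restrictScalars R + (cont θ).restrictScalars R ∘ₗ dT (kDatum R A)

theorem lie_apply (x : E) : lie θ x = d0 (kDatum R A) (cont θ x) + cont θ (d0 (kDatum R A) x) := rfl

theorem d0_lie (x : E) : d0 (kDatum R A) (lie θ x) = lie θ (d0 (kDatum R A) x) := by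
  rw [lie_apply, lie_apply, map_add, d0_d0, d0_d0, map_zero, zero_add, add_zero]

theorem lie_smul (a : A) (x : E) : lie θ (a • x) = θ a • x + a • lie θ x := by
  rw [lie_apply, lie_apply, map_smul, d0_smul, d0_smul, map_add, map_smul, cont_ι_mul,
    Derivation.liftKaehlerDifferential_comp_D, smul_add]
  abel

theorem lie_D_mul (b : A) (x : E) : lie θ (ι A (𝑫 b) * x) = ι A (𝑫 (θ b)) * x + ι A (𝑫 b) * lie θ x := by
  have hc : (kDatum R A).D (𝑫 b) = 0 := (kDatum R A).closed b
  rw [lie_apply, lie_apply, cont_ι_mul, d0_ι_mul, hc, zero_mul, zero_sub, map_neg, cont_ι_mul, map_sub, d0_smul,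
    d0_ι_mul, hc, zero_mul, zero_sub, Derivation.liftKaehlerDifferential_comp_D, mul_add]
  abel

theorem lie_algebraMap (a : A) : lie θ (algebraMap A E a) = algebraMap A E (θ a) := by
  rw [lie_apply, cont_algebraMap, map_zero, zero_add, d0_algebraMap, ← mul_one (ι A (𝑫 a)), cont_ι_mul,
    ← map_one (algebraMap A E), cont_algebraMap, mul_zero, sub_zero, Derivation.liftKaehlerDifferential_comp_D,
    Algebra.smul_def, map_one, mul_one]

theorem lie_ιMulti : ∀ {p : ℕ} (b : Fin p → A) (w : Fin p → ℕ), (∀ i, θ (b i) = w i • b i) →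
    lie θ (ιMulti A p fun i => 𝑫 (b i)) = (∑ i, w i) • ιMulti A p fun i => 𝑫 (b i)
  | 0, b, w, _ => by
    rw [ιMulti_zero_apply, ← map_one (algebraMap A E), lie_algebraMap, θ.map_one_eq_zero, map_zero]
    simp
  | p + 1, b, w, h => by
    rw [ιMulti_succ_apply, lie_D_mul, h 0,
      show Matrix.vecTail (fun i => 𝑫 (b i)) = fun i => 𝑫 (b i.succ) from rfl,
      lie_ιMulti (fun i => b i.succ) (fun i => w i.succ) fun i => h i.succ, Fin.sum_univ_succ, add_smul, map_nsmul,
      map_nsmul, mul_smul_comm, smul_mul_assoc]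

theorem lie_eigen {p : ℕ} {a : A} {m : ℕ} (ha : θ a = m • a) (b : Fin p → A) (w : Fin p → ℕ)
    (hb : ∀ i, θ (b i) = w i • b i) :
    lie θ (a • ιMulti A p fun i => 𝑫 (b i)) = (m + ∑ i, w i) • (a • ιMulti A p fun i => 𝑫 (b i)) := by
  rw [lie_smul, lie_ιMulti θ b w hb, ha, add_smul, smul_assoc, smul_comm a]

/-- forms killed by a polynomial in the Lie derivative with constant term one -/
def nullSub : AddSubmonoid E where
  carrier := {z | ∃ Q : Polynomial R, Q.coeff 0 = 1 ∧ Polynomial.aeval (lie θ) Q z = 0}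
  zero_mem' := ⟨1, by simp, by simp⟩
  add_mem' := by
    rintro x y ⟨P, hP, hx⟩ ⟨Q, hQ, hy⟩
    refine ⟨P * Q, by rw [Polynomial.mul_coeff_zero, hP, hQ, mul_one], ?_⟩
    rw [map_add]
    conv_lhs => arg 1; rw [mul_comm]
    rw [map_mul, map_mul, Module.End.mul_apply, Module.End.mul_apply, hx, hy, map_zero, map_zero, add_zero]

theorem mem_nullSub_of_eigen {c : ℕ} (hc : IsUnit (c : R)) {z : E} (h : lie θ z = c • z) : z ∈ nullSub θ := by
  obtain ⟨v, hv⟩ := hc.exists_left_inv
  refine ⟨1 - Polynomial.C v * Polynomial.X, by simp, ?_⟩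
  rw [map_sub, map_one, map_mul, Polynomial.aeval_C, Polynomial.aeval_X, LinearMap.sub_apply,
    Module.End.mul_apply, Module.algebraMap_end_apply, Module.End.one_apply, h, ← Nat.cast_smul_eq_nsmul R,
    smul_smul, hv, one_smul, sub_self]

theorem aeval_lie_mem (S : Polynomial R) {p : ℕ} {z : E} (hz : z ∈ exteriorPower A (p + 1) Ω) :
    Polynomial.aeval (lie θ) S z ∈ exteriorPower A (p + 1) Ω := by
  have hL : ∀ x, x ∈ exteriorPower A (p + 1) Ω → lie θ x ∈ exteriorPower A (p + 1) Ω := fun x hx => by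
    rw [lie_apply]
    exact add_mem (d0_mem _ (cont_mem θ p hx)) (cont_mem θ (p + 1) (d0_mem _ hx))
  induction S using Polynomial.induction_on with
  | C a =>
    rw [Polynomial.aeval_C, Module.algebraMap_end_apply, ← IsScalarTower.algebraMap_smul A a z]
    exact Submodule.smul_mem _ _ hz
  | add P Q hP hQ => rw [map_add, LinearMap.add_apply]; exact add_mem hP hQ
  | monomial n a ih =>
    rw [pow_succ', ← mul_assoc, mul_comm (Polynomial.C a), mul_assoc, map_mul, Polynomial.aeval_X,
      Module.End.mul_apply]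
    exact hL _ ih

theorem d0_aeval_lie (S : Polynomial R) (z : E) :
    d0 (kDatum R A) (Polynomial.aeval (lie θ) S z) = Polynomial.aeval (lie θ) S (d0 (kDatum R A) z) := by
  induction S using Polynomial.induction_on generalizing z with
  | C a =>
    rw [Polynomial.aeval_C, Module.algebraMap_end_apply, Module.algebraMap_end_apply]
    exact (dT (kDatum R A)).map_smul a z
  | add P Q hP hQ => rw [map_add, LinearMap.add_apply, LinearMap.add_apply, map_add, hP, hQ]
  | monomial n a ih =>
    rw [pow_succ', ← mul_assoc, mul_comm (Polynomial.C a), mul_assoc, map_mul, Polynomial.aeval_X,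
      Module.End.mul_apply, Module.End.mul_apply, d0_lie, ih]

theorem exists_primitive {p : ℕ} {z : E} (hz : z ∈ exteriorPower A (p + 1) Ω) (hn : z ∈ nullSub θ)
    (hd : d0 (kDatum R A) z = 0) : ∃ w ∈ exteriorPower A p Ω, d0 (kDatum R A) w = z := by
  obtain ⟨Q, hQ, hQz⟩ := hn
  obtain ⟨S, hS⟩ : Polynomial.X ∣ 1 - Q := by
    rw [Polynomial.X_dvd_iff, Polynomial.coeff_sub, hQ, Polynomial.coeff_one_zero, sub_self]
  refine ⟨cont θ (Polynomial.aeval (lie θ) S z), cont_mem θ p (aeval_lie_mem θ S hz), ?_⟩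
  have h1 : lie θ (Polynomial.aeval (lie θ) S z) = z := by
    have := congrArg (fun P => Polynomial.aeval (lie θ) P z) hS
    simp only [map_sub, map_one, map_mul, Polynomial.aeval_X, LinearMap.sub_apply, Module.End.one_apply,
      Module.End.mul_apply, hQz, sub_zero] at this
    exact this.symm
  conv_rhs => rw [← h1]
  rw [lie_apply, d0_aeval_lie, hd, map_zero, map_zero, add_zero]

theorem exists_primitive_dp {p : ℕ} (z : ↥(⋀[A]^(p + 1) Ω)) (hn : (z : E) ∈ nullSub θ)
    {d : ∀ q : ℕ, ↥(⋀[A]^q Ω) →ₗ[R] ↥(⋀[A]^(q + 1) Ω)} (hdr : DeRham.IsRule 𝑫 d) (hz : d (p + 1) z = 0) :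
    ∃ w, d p w = z := by
  rw [eq_dp hdr] at hz ⊢
  obtain ⟨w, hw, hwz⟩ := exists_primitive θ z.2 hn (congrArg Subtype.val hz)
  exact ⟨⟨w, hw⟩, Subtype.ext hwz⟩

end Groth.Agent.DR15
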