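import Mathlib
import Groth.Agent.DR15.Kaehler

/-! De Rham cohomology of the multiplicative group. -/

set_option autoImplicit false

universe u

noncomputable section

open LaurentPolynomial

namespace Groth.Agent.DR15

variable {k : Type u} [Field k]

local notation "L" => LaurentPolynomial k
local notation "𝑫" => KaehlerDifferential.D k (LaurentPolynomial k)

/-- scale the coefficient of `T n` by `w n` -/
def scale (w : ℤ → k) : L →ₗ[k] L :=
  (AddMonoidAlgebra.coeffLinearEquiv k).symm.toLinearMap ∘ₗ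
    (Finsupp.lsum k fun n => w n • Finsupp.lsingle n) ∘ₗ (AddMonoidAlgebra.coeffLinearEquiv k).toLinearMap

theorem scale_C_mul_T (w : ℤ → k) (n : ℤ) (a : k) : scale w (C a * T n) = C (w n * a) * T n := by
  rw [← single_eq_C_mul_T, ← single_eq_C_mul_T]
  show (AddMonoidAlgebra.coeffLinearEquiv k).symm (Finsupp.lsum k (fun n => w n • Finsupp.lsingle n)
    (Finsupp.single n a)) = _
  rw [Finsupp.lsum_single, LinearMap.smul_apply, Finsupp.lsingle_apply, Finsupp.smul_single, smul_eq_mul]
  rfl

theorem coeff_scale (w : ℤ → k) (f : L) (m : ℤ) : (scale w f).coeff m = w m * f.coeff m := by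
  induction f using LaurentPolynomial.induction_on' with
  | add p q hp hq => simp [hp, hq, mul_add]
  | C_mul_T n a =>
    rw [scale_C_mul_T, ← single_eq_C_mul_T, ← single_eq_C_mul_T, AddMonoidAlgebra.coeff_single,
      AddMonoidAlgebra.coeff_single]
    rcases eq_or_ne n m with rfl | h
    · simp
    · simp [Finsupp.single_eq_of_ne' h]

/-- `t d/dt` -/
def eulerL : Derivation k L L :=
  Derivation.mk' (scale fun n => (n : k)) fun a b => by
    induction a using LaurentPolynomial.induction_on' with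
    | add p q hp hq => rw [add_mul, map_add, hp, hq, map_add]; simp only [smul_eq_mul]; ring
    | C_mul_T n x =>
      induction b using LaurentPolynomial.induction_on' with
      | add p q hp hq => rw [mul_add, map_add, hp, hq, map_add]; simp only [smul_eq_mul]; ring
      | C_mul_T m y =>
        rw [show C x * T n * (C y * T m) = C (x * y) * T (n + m) by rw [map_mul, T_add]; ring,
          scale_C_mul_T, scale_C_mul_T, scale_C_mul_T]
        simp only [smul_eq_mul, Int.cast_add, map_mul, map_add, T_add]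
        ring

theorem eulerL_apply (f : L) : eulerL f = scale (fun n => (n : k)) f := rfl

theorem eulerL_T (n : ℤ) : eulerL (T n : L) = (n : k) • T n := by
  have := scale_C_mul_T (fun n => (n : k)) n 1
  rw [map_one, one_mul, mul_one] at this
  rw [eulerL_apply, this, smul_eq_C_mul]

/-- the invariant form -/
def dlog : Ω[L⁄k] := (T (-1) : L) • 𝑫 (T 1)

theorem lift_dlog : eulerL.liftKaehlerDifferential (dlog (k := k)) = 1 := by
  rw [dlog, map_smul, Derivation.liftKaehlerDifferential_comp_D, eulerL_T, smul_eq_mul,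
    Int.cast_one, one_smul, ← T_add, show (-1 : ℤ) + 1 = 0 from rfl, T_zero]

theorem D_eq (f : L) : 𝑫 f = eulerL f • dlog (k := k) := by
  let δ : Derivation k L (Ω[L⁄k]) := 𝑫 - (LinearMap.toSpanSingleton L _ dlog).compDer eulerL
  suffices h : δ f = 0 from sub_eq_zero.1 h
  have h1 : δ (T (R := k) 1) = 0 := by
    show 𝑫 (T (R := k) 1) - eulerL (T (R := k) 1) • dlog = 0
    rw [eulerL_T, Int.cast_one, one_smul, dlog, smul_smul, ← T_add, show (1 : ℤ) + -1 = 0 from rfl, T_zero, one_smul,
      sub_self]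
  have h2 : δ (T (R := k) (-1)) = 0 := by
    have h3 := δ.leibniz (T 1) (T (-1))
    rw [← T_add, show (1 : ℤ) + -1 = 0 from rfl, T_zero, Derivation.map_one_eq_zero, h1, smul_zero, add_zero] at h3
    have h4 := congrArg (fun z => (T (-1) : L) • z) h3.symm
    simp only [smul_smul, ← T_add, show (-1 : ℤ) + 1 = 0 from rfl, T_zero, one_smul, smul_zero] at h4
    exact h4
  induction f using LaurentPolynomial.induction_on with
  | h_C a => rw [C_eq_algebraMap]; exact δ.map_algebraMap a
  | h_add hp hq => rw [map_add, hp, hq, add_zero]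
  | h_C_mul_T n a ih => rw [T_add, ← mul_assoc, δ.leibniz, ih, h1, smul_zero, smul_zero, add_zero]
  | h_C_mul_T_Z n a ih =>
    rw [sub_eq_add_neg, T_add, ← mul_assoc, δ.leibniz, ih, h2, smul_zero, smul_zero, add_zero]

theorem eq_lift_smul_dlog (w : Ω[L⁄k]) : w = eulerL.liftKaehlerDifferential w • dlog (k := k) := by
  have hw : w ∈ Submodule.span L (Set.range 𝑫) := by
    rw [KaehlerDifferential.span_range_derivation]; exact Submodule.mem_top
  induction hw using Submodule.span_induction with
  | mem x hx => obtain ⟨f, rfl⟩ := hx; rw [Derivation.liftKaehlerDifferential_comp_D, ← D_eq]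
  | zero => simp
  | add x y _ _ hx hy => rw [map_add, add_smul, ← hx, ← hy]
  | smul c x _ hx => rw [map_smul, smul_eq_mul, mul_smul, ← hx]

theorem eulerL_eq_zero_iff [CharZero k] (f : L) : eulerL f = 0 ↔ f ∈ Set.range (algebraMap k L) := by
  constructor
  · intro h
    refine ⟨f.coeff 0, LaurentPolynomial.ext fun m => ?_⟩
    have := congrArg (fun g : L => g.coeff m) h
    simp only [eulerL_apply, coeff_scale, AddMonoidAlgebra.coeff_zero, Finsupp.zero_apply, mul_eq_zero,
      Int.cast_eq_zero] at this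
    rw [← C_eq_algebraMap, C_apply]
    split
    · next hm => rw [hm]
    · next hm => exact (this.resolve_left hm).symm
  · rintro ⟨c, rfl⟩
    exact Derivation.map_algebraMap _ c

theorem kaehlerD_eq_zero_iff [CharZero k] (f : L) : 𝑫 f = 0 ↔ f ∈ Set.range (algebraMap k L) := by
  rw [← eulerL_eq_zero_iff]
  constructor
  · intro h
    rw [← Derivation.liftKaehlerDifferential_comp_D eulerL f, h, map_zero]
  · intro h
    rw [D_eq, h, zero_smul]

theorem subsingleton_wedge (i : ℕ) : Subsingleton ↥(⋀[L]^(i + 2) (Ω[L⁄k])) := by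
  refine subsingleton_of_forall_eq 0 fun x => ?_
  have hx : x ∈ Submodule.span L (Set.range (exteriorPower.ιMulti L (i + 2) (M := Ω[L⁄k]))) := by
    rw [exteriorPower.ιMulti_span]; exact Submodule.mem_top
  induction hx using Submodule.span_induction with
  | mem y hy =>
    obtain ⟨v, rfl⟩ := hy
    rw [show v = fun j => eulerL.liftKaehlerDifferential (v j) • dlog (k := k) from funext fun j => eq_lift_smul_dlog _,
      AlternatingMap.map_smul_univ, AlternatingMap.map_eq_zero_of_eq _ _ (i := 0) (j := 1) rfl (by simp), smul_zero]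
  | zero => rfl
  | add a b _ _ ha hb => rw [ha, hb, add_zero]
  | smul c a _ ha => rw [ha, smul_zero]

theorem laurent_deRham [CharZero k]
    (d : ∀ p : ℕ, ↥(⋀[L]^p (Ω[L⁄k])) →ₗ[k] ↥(⋀[L]^(p + 1) (Ω[L⁄k])))
    (hd : DeRham.IsDiff 𝑫 d) :
    DeRham.cocycles d 1 = ⊤ ∧
    IsCompl (DeRham.coboundaries d 1)
      (Submodule.span k {DeRham.gen 𝑫 1 (T (-1)) (fun _ => T 1)}) ∧
    DeRham.gen 𝑫 1 (T (-1)) (fun _ => T 1) ∉ DeRham.coboundaries d 1 ∧
    ∀ i : ℕ, DeRham.cocycles d (i + 2) ≤ DeRham.coboundaries d (i + 2) := by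
  haveI := subsingleton_wedge (k := k)
  let r : ↥(⋀[L]^1 (Ω[L⁄k])) →ₗ[L] L := eulerL.liftKaehlerDifferential ∘ₗ (exteriorPower.oneEquiv L (Ω[L⁄k])).toLinearMap
  have hr : Function.Injective r := by
    intro x y h
    apply (exteriorPower.oneEquiv L (Ω[L⁄k])).injective
    rw [eq_lift_smul_dlog (exteriorPower.oneEquiv L (Ω[L⁄k]) x), eq_lift_smul_dlog (exteriorPower.oneEquiv L (Ω[L⁄k]) y)]
    exact congrArg (· • dlog (k := k)) h
  have hu : r (DeRham.gen 𝑫 1 (T (-1)) (fun _ => T 1)) = 1 := by
    show eulerL.liftKaehlerDifferential (exteriorPower.oneEquiv L (Ω[L⁄k]) ((T (-1) : L) • _)) = _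
    rw [map_smul, exteriorPower.oneEquiv_ιMulti]
    exact lift_dlog
  have hd0 : ∀ x, r (d 0 x) = eulerL (exteriorPower.zeroEquiv L (Ω[L⁄k]) x) := by
    intro x
    refine DFunLike.congr_fun (ext_of_gen (KaehlerDifferential.span_range_derivation k L)
      (r.toAddMonoidHom.comp (d 0).toAddMonoidHom)
      (eulerL.toLinearMap.toAddMonoidHom.comp (exteriorPower.zeroEquiv L (Ω[L⁄k])).toAddEquiv.toAddMonoidHom)
      fun b₀ b => ?_) x
    show r (d 0 _) = eulerL (exteriorPower.zeroEquiv L (Ω[L⁄k]) _)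
    rw [hd.1, DeRham.gen, map_smul, exteriorPower.zeroEquiv_ιMulti, smul_eq_mul, mul_one]
    show eulerL.liftKaehlerDifferential (exteriorPower.oneEquiv L (Ω[L⁄k]) _) = _
    rw [exteriorPower.oneEquiv_ιMulti, Fin.cons_zero, Derivation.liftKaehlerDifferential_comp_D]
  have hexact : ∀ x, x ∈ DeRham.coboundaries d 1 ↔ (r x).coeff 0 = 0 := by
    intro x
    constructor
    · rintro ⟨y, rfl⟩
      rw [hd0, eulerL_apply, coeff_scale, Int.cast_zero, zero_mul]
    · intro h
      refine ⟨(exteriorPower.zeroEquiv L (Ω[L⁄k])).symm (scale (fun n => (n : k)⁻¹) (r x)), hr ?_⟩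
      rw [hd0, LinearEquiv.apply_symm_apply, eulerL_apply]
      refine LaurentPolynomial.ext fun m => ?_
      rw [coeff_scale, coeff_scale]
      rcases eq_or_ne m 0 with rfl | hm
      · rw [h]; simp
      · rw [← mul_assoc, mul_inv_cancel₀ (Int.cast_ne_zero.2 hm), one_mul]
  have hc : ∀ (c : k) x, r (c • x) = c • r x := fun c x => LinearMap.map_smul_of_tower r c x
  refine ⟨?_, ⟨?_, ?_⟩, ?_, fun i z _ => ?_⟩
  · exact Submodule.eq_top_iff'.2 fun x => LinearMap.mem_ker.2 (Subsingleton.elim _ _)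
  · rw [Submodule.disjoint_def]
    intro x hx hx'
    obtain ⟨c, rfl⟩ := Submodule.mem_span_singleton.1 hx'
    rw [hexact, hc, hu, AddMonoidAlgebra.coeff_smul, Finsupp.smul_apply, ← T_zero, T_apply, if_pos rfl,
      smul_eq_mul, mul_one] at hx
    rw [hx, zero_smul]
  · rw [codisjoint_iff, eq_top_iff]
    intro x _
    refine Submodule.mem_sup.2 ⟨x - (r x).coeff 0 • DeRham.gen 𝑫 1 (T (-1)) (fun _ => T 1), ?_, _,
      Submodule.smul_mem _ _ (Submodule.subset_span rfl), sub_add_cancel _ _⟩
    rw [hexact, map_sub, hc, hu, AddMonoidAlgebra.coeff_sub, Finsupp.sub_apply, AddMonoidAlgebra.coeff_smul,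
      Finsupp.smul_apply, ← T_zero, T_apply, if_pos rfl, smul_eq_mul, mul_one, sub_self]
  · rw [hexact, hu, ← T_zero, T_apply, if_pos rfl]
    exact one_ne_zero
  · rw [Subsingleton.elim z 0]
    exact zero_mem _

end Groth.Agent.DR15
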