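import Mathlib

/-! Naive de Rham complex of the node. -/

set_option autoImplicit false

universe u

noncomputable section

open MvPolynomial

namespace Groth.Agent.DR15

theorem D_map_eq_zero {k A B : Type u} [CommRing k] [CommRing A] [CommRing B] [Algebra k A] [Algebra k B]
    (φ : A →ₐ[k] B) {f : A} (h : KaehlerDifferential.D k A f = 0) : KaehlerDifferential.D k B (φ f) = 0 := by
  letI := φ.toRingHom.toAlgebra
  haveI : IsScalarTower k A B := .of_algebraMap_eq fun r => (φ.commutes r).symm
  have := KaehlerDifferential.map_D k k A B f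
  rw [h, map_zero] at this
  exact this.symm

variable (k : Type u) [Field k]

/-- the node -/
abbrev NodeRing : Type u := MvPolynomial (Fin 2) k ⧸ Ideal.span {(X 0 * X 1 : MvPolynomial (Fin 2) k)}

variable {k}

theorem polynomial_eq_C_of_D_eq_zero [CharZero k] {g : Polynomial k}
    (h : KaehlerDifferential.D k (Polynomial k) g = 0) : g = Polynomial.C (g.coeff 0) := by
  refine Polynomial.eq_C_of_derivative_eq_zero ?_
  have := Derivation.liftKaehlerDifferential_comp_D (Polynomial.derivative' (R := k)) g
  rw [h, map_zero] at this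
  exact this.symm

theorem fin_two_cases : ∀ i j l : Fin 2, i ≠ j → l = i ∨ l = j := by decide

theorem node_D_eq_zero_iff [CharZero k] (P : NodeRing k) :
    KaehlerDifferential.D k (NodeRing k) P = 0 ↔ P ∈ Set.range (algebraMap k (NodeRing k)) := by
  classical
  refine ⟨fun h => ?_, fun ⟨c, hc⟩ => hc ▸ Derivation.map_algebraMap _ c⟩
  obtain ⟨g, rfl⟩ := Ideal.Quotient.mk_surjective P
  have key : ∀ (i j : Fin 2), i ≠ j → ∀ n : ℕ, n ≠ 0 → g.coeff (Finsupp.single i n) = 0 := by
    intro i j hij n hn
    let v : Fin 2 → Polynomial k := fun l => if l = i then Polynomial.X else 0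
    let φ : NodeRing k →ₐ[k] Polynomial k := Ideal.Quotient.liftₐ _ (aeval v) fun a ha => by
      obtain ⟨b, rfl⟩ := Ideal.mem_span_singleton'.1 ha
      rw [map_mul, map_mul, aeval_X, aeval_X]
      fin_cases i <;> simp [v]
    have hφ := polynomial_eq_C_of_D_eq_zero (D_map_eq_zero φ h)
    have hc : ∀ f : MvPolynomial (Fin 2) k, (aeval v f).coeff n = f.coeff (Finsupp.single i n) := by
      intro f
      induction f using MvPolynomial.induction_on' with
      | monomial s a =>
        have hs : s = Finsupp.single i (s i) + Finsupp.single j (s j) := by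
          ext l
          rcases fin_two_cases i j l hij with rfl | rfl
          · simp [Finsupp.single_eq_of_ne hij]
          · simp [Finsupp.single_eq_of_ne hij.symm]
        have hprod : (s.prod fun l e => v l ^ e) = Polynomial.X ^ s i * (0 : Polynomial k) ^ s j := by
          conv_lhs => rw [hs]
          rw [Finsupp.prod_add_index' (by simp) (by simp [pow_add]), Finsupp.prod_single_index (by simp),
            Finsupp.prod_single_index (by simp), show v i = Polynomial.X from if_pos rfl,
            show v j = 0 from if_neg hij.symm]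
        rw [aeval_monomial, MvPolynomial.coeff_monomial, Polynomial.algebraMap_eq, hprod, Polynomial.coeff_C_mul]
        by_cases hsj : s j = 0
        · rw [hsj, pow_zero, mul_one, Polynomial.coeff_X_pow]
          rcases eq_or_ne n (s i) with h' | h'
          · rw [if_pos h', if_pos (by rw [hs, hsj, h']; simp), mul_one]
          · rw [if_neg h', if_neg (fun e => h' (by rw [e]; simp)), mul_zero]
        · rw [zero_pow hsj, mul_zero, Polynomial.coeff_zero, mul_zero, if_neg]
          intro e
          apply hsj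
          rw [e, Finsupp.single_eq_of_ne (Ne.symm hij)]
      | add p q hp hq => rw [map_add, Polynomial.coeff_add, MvPolynomial.coeff_add, hp, hq]
    rw [← hc]
    have : φ (Ideal.Quotient.mk _ g) = aeval v g := rfl
    rw [← this, hφ, Polynomial.coeff_C, if_neg hn]
  refine ⟨g.coeff 0, ?_⟩
  show Ideal.Quotient.mk _ (C (g.coeff 0)) = Ideal.Quotient.mk _ g
  rw [Ideal.Quotient.eq]
  have hXY : Ideal.span {(X 0 * X 1 : MvPolynomial (Fin 2) k)} =
      Ideal.span ((fun s => monomial s (1 : k)) '' {Finsupp.single 0 1 + Finsupp.single 1 1}) := by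
    rw [Set.image_singleton, X, X, monomial_mul, one_mul]
  rw [hXY, mem_ideal_span_monomial_image]
  intro s hs
  refine ⟨_, rfl, ?_⟩
  rw [MvPolynomial.mem_support_iff, MvPolynomial.coeff_sub, MvPolynomial.coeff_C] at hs
  have h0 : s ≠ 0 := fun e => hs (by simp [e])
  rw [if_neg (Ne.symm h0), zero_sub, neg_ne_zero] at hs
  have hx : ∀ i j : Fin 2, i ≠ j → s j ≠ 0 := by
    intro i j hij hsj
    have e : s = Finsupp.single i (s i) := by
      ext l
      rcases fin_two_cases i j l hij with rfl | rfl
      · simp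
      · simp [Finsupp.single_eq_of_ne hij.symm, hsj]
    refine hs (e ▸ key i j hij (s i) fun hsi => h0 ?_)
    rw [e, hsi, Finsupp.single_zero]
  intro l
  fin_cases l <;> simp [Nat.one_le_iff_ne_zero, hx 1 0 (by decide), hx 0 1 (by decide)]

/-- first order coefficients at the origin -/
def nodeJet : NodeRing k →ₐ[k] TrivSqZeroExt k (k × k) :=
  Ideal.Quotient.liftₐ _ (aeval ![TrivSqZeroExt.inr (1, 0), TrivSqZeroExt.inr (0, 1)]) fun a ha => by
    obtain ⟨b, rfl⟩ := Ideal.mem_span_singleton'.1 ha
    rw [map_mul, map_mul, aeval_X, aeval_X]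
    simp [TrivSqZeroExt.inr_mul_inr]

theorem nodeJet_X (i : Fin 2) : nodeJet (k := k) (Ideal.Quotient.mk _ (X i)) =
    ![TrivSqZeroExt.inr (1, 0), TrivSqZeroExt.inr (0, 1)] i := by
  show aeval _ (X i) = _
  rw [aeval_X]

/-- second order test module -/
def NodeMod (k : Type u) : Type u := k × k × k

instance : AddCommGroup (NodeMod k) := inferInstanceAs (AddCommGroup (k × k × k))
instance : Module k (NodeMod k) := inferInstanceAs (Module k (k × k × k))

namespace NodeMod

@[ext] theorem ext {m n : NodeMod k} (h1 : m.1 = n.1) (h2 : m.2.1 = n.2.1) (h3 : m.2.2 = n.2.2) : m = n :=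
  Prod.ext h1 (Prod.ext h2 h3)

@[simp] theorem add_1 (m n : NodeMod k) : (m + n).1 = m.1 + n.1 := rfl
@[simp] theorem add_21 (m n : NodeMod k) : (m + n).2.1 = m.2.1 + n.2.1 := rfl
@[simp] theorem add_22 (m n : NodeMod k) : (m + n).2.2 = m.2.2 + n.2.2 := rfl
@[simp] theorem zero_1 : (0 : NodeMod k).1 = 0 := rfl
@[simp] theorem zero_21 : (0 : NodeMod k).2.1 = 0 := rfl
@[simp] theorem zero_22 : (0 : NodeMod k).2.2 = 0 := rfl
@[simp] theorem smul_1 (c : k) (m : NodeMod k) : (c • m).1 = c * m.1 := rfl
@[simp] theorem smul_21 (c : k) (m : NodeMod k) : (c • m).2.1 = c * m.2.1 := rfl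
@[simp] theorem smul_22 (c : k) (m : NodeMod k) : (c • m).2.2 = c * m.2.2 := rfl

instance : SMul (TrivSqZeroExt k (k × k)) (NodeMod k) :=
  ⟨fun a m => (a.fst * m.1, a.fst * m.2.1, a.fst * m.2.2 + a.snd.1 * m.2.1 - a.snd.2 * m.1)⟩

@[simp] theorem tsmul_1 (a : TrivSqZeroExt k (k × k)) (m : NodeMod k) : (a • m).1 = a.fst * m.1 := rfl
@[simp] theorem tsmul_21 (a : TrivSqZeroExt k (k × k)) (m : NodeMod k) : (a • m).2.1 = a.fst * m.2.1 := rfl
@[simp] theorem tsmul_22 (a : TrivSqZeroExt k (k × k)) (m : NodeMod k) :
    (a • m).2.2 = a.fst * m.2.2 + a.snd.1 * m.2.1 - a.snd.2 * m.1 := rfl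

instance : Module (TrivSqZeroExt k (k × k)) (NodeMod k) where
  one_smul m := by ext <;> simp
  mul_smul a b m := by ext <;> simp [TrivSqZeroExt.snd_mul] <;> ring
  smul_zero a := by ext <;> simp
  smul_add a m n := by ext <;> simp <;> ring
  add_smul a b m := by ext <;> simp <;> ring
  zero_smul m := by ext <;> simp

instance : Module (NodeRing k) (NodeMod k) := Module.compHom _ (nodeJet (k := k)).toRingHom

theorem node_smul (a : NodeRing k) (m : NodeMod k) : a • m = nodeJet a • m := rfl

instance : IsScalarTower k (NodeRing k) (NodeMod k) :=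
  ⟨fun c a m => by
    rw [node_smul, node_smul, map_smul]
    ext <;> simp <;> ring⟩

end NodeMod

/-- test derivation -/
def nodeDer : Derivation k (NodeRing k) (NodeMod k) :=
  Derivation.mk'
    { toFun := fun a => (((nodeJet a).snd.1, (nodeJet a).snd.2, (0 : k)) : NodeMod k)
      map_add' := fun a b => by ext <;> simp
      map_smul' := fun c a => by ext <;> simp }
    fun a b => by
      simp only [LinearMap.coe_mk, AddHom.coe_mk]
      ext <;> simp [NodeMod.node_smul, TrivSqZeroExt.snd_mul] <;> ring

theorem node_D_not_surjective : ¬ Function.Surjective (KaehlerDifferential.D k (NodeRing k)) := by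
  intro h
  let φ := (nodeDer (k := k)).liftKaehlerDifferential
  obtain ⟨f, hf⟩ := h ((Ideal.Quotient.mk _ (X 0) : NodeRing k) •
    KaehlerDifferential.D k (NodeRing k) (Ideal.Quotient.mk _ (X 1)))
  have h1 := congrArg φ hf
  simp only [φ, map_smul, Derivation.liftKaehlerDifferential_comp_D] at h1
  have h2 := congrArg (fun m : NodeMod k => m.2.2) h1
  simp [nodeDer, NodeMod.node_smul, nodeJet_X] at h2

end Groth.Agent.DR15
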