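import Mathlib
import Groth.Agent.DR15.Homotopy

/-! Poincaré lemmas for polynomial rings. -/

set_option autoImplicit false

universe u v

noncomputable section

namespace Groth.Agent.DR15

open ExteriorAlgebra

theorem exists_isCxMap_ringHom {R A B : Type u} [CommRing R] [CommRing A] [CommRing B] [Algebra R A] [Algebra R B]
    (g : A →+* B) (hg : ∀ r, g (algebraMap R A r) = algebraMap R B r) :
    ∃ ψ : ∀ p : ℕ, ↥(⋀[A]^p (Ω[A⁄R])) →+ ↥(⋀[B]^p (Ω[B⁄R])),
      DeRham.IsCxMap (KaehlerDifferential.D R A) (KaehlerDifferential.D R B) g ψ := by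
  letI := g.toAlgebra
  haveI : IsScalarTower R A B := .of_algebraMap_eq fun r => (hg r).symm
  exact exists_isCxMap (R := R) (S := R) (A := A) (B := B)

section Euler

variable {k : Type u} [Field k] [CharZero k] {σ : Type}

/-- the Euler derivation -/
def euler : Derivation k (MvPolynomial σ k) (MvPolynomial σ k) := MvPolynomial.mkDerivation k MvPolynomial.X

theorem euler_monomial (s : σ →₀ ℕ) (c : k) :
    euler (MvPolynomial.monomial s c) = s.degree • MvPolynomial.monomial s c := by
  induction s using Finsupp.induction with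
  | zero => simp [euler, ← MvPolynomial.C_apply]
  | single_add i n s hi hn ih =>
    rw [MvPolynomial.monomial_single_add, Derivation.leibniz, ih, Derivation.leibniz_pow, euler,
      MvPolynomial.mkDerivation_X, smul_eq_mul, smul_eq_mul, map_add, Finsupp.degree_single, smul_eq_mul,
      ← pow_succ, Nat.sub_add_cancel (Nat.one_le_iff_ne_zero.2 hn)]
    simp only [nsmul_eq_mul, Nat.cast_add]
    ring

theorem exists_C_of_euler_eq_zero (a : MvPolynomial σ k) (h : euler a = 0) :
    ∃ c : k, a = MvPolynomial.C c := by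
  classical
  refine ⟨a.coeff 0, MvPolynomial.ext _ _ fun s => ?_⟩
  have hs : ∀ f : MvPolynomial σ k, (euler f).coeff s = (s.degree : k) * f.coeff s := by
    intro f
    induction f using MvPolynomial.induction_on' with
    | monomial u c =>
      rw [euler_monomial, MvPolynomial.coeff_smul, MvPolynomial.coeff_monomial, nsmul_eq_mul]
      split
      · next hu => rw [hu]
      · rw [mul_zero, mul_zero]
    | add p q hp hq => rw [map_add, MvPolynomial.coeff_add, MvPolynomial.coeff_add, hp, hq, mul_add]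
  rw [MvPolynomial.coeff_C]
  split
  · next hs0 => rw [hs0]
  · next hs0 =>
    have := hs a
    rw [h, MvPolynomial.coeff_zero, eq_comm, mul_eq_zero, Nat.cast_eq_zero, Finsupp.degree_eq_zero_iff] at this
    exact this.resolve_left (Ne.symm hs0)

theorem mem_nullSub_euler (p : ℕ) {z : ExteriorAlgebra (MvPolynomial σ k) (Ω[MvPolynomial σ k⁄k])}
    (hz : z ∈ exteriorPower (MvPolynomial σ k) (p + 1) (Ω[MvPolynomial σ k⁄k])) : z ∈ nullSub euler := by
  let A := MvPolynomial σ k
  have hs : Submodule.span A (Set.range fun i : σ => KaehlerDifferential.D k A (MvPolynomial.X i)) = ⊤ := by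
    rw [← (KaehlerDifferential.mvPolynomialBasis k σ).span_eq]
    congr 2
    funext i
    exact (KaehlerDifferential.mvPolynomialBasis_apply k σ i).symm
  have key : ∀ y : ↥(⋀[A]^(p + 1) (Ω[A⁄k])), ∀ c : A, (c • (y : ExteriorAlgebra A (Ω[A⁄k]))) ∈ nullSub euler := by
    intro y
    have hy : y ∈ Submodule.span A (exteriorPower.ιMulti A (p + 1) ''
        {a | Set.range a ⊆ Set.range fun i : σ => KaehlerDifferential.D k A (MvPolynomial.X i)}) := by
      rw [exteriorPower.ιMulti_span_of_span A (p + 1) (Ω[A⁄k]) hs]; exact Submodule.mem_top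
    induction hy using Submodule.span_induction with
    | mem y hy =>
      obtain ⟨v, hv, rfl⟩ := hy
      choose i hi using fun j => hv ⟨j, rfl⟩
      intro c
      rw [exteriorPower.ιMulti_apply_coe,
        show v = fun j => KaehlerDifferential.D k A (MvPolynomial.X (i j)) from funext fun j => (hi j).symm]
      induction c using MvPolynomial.induction_on' with
      | monomial s a =>
        refine mem_nullSub_of_eigen euler (c := s.degree + ∑ _j : Fin (p + 1), 1) ?_
          (lie_eigen euler (euler_monomial s a) (fun j => MvPolynomial.X (i j)) (fun _ => 1) fun j => by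
            rw [one_smul, euler, MvPolynomial.mkDerivation_X])
        rw [isUnit_iff_ne_zero, Nat.cast_ne_zero]
        simp
      | add a b ha hb => rw [add_smul]; exact add_mem ha hb
    | zero => intro c; simp
    | add x y _ _ hx hy => intro c; rw [Submodule.coe_add, smul_add]; exact add_mem (hx c) (hy c)
    | smul a x _ hx => intro c; rw [Submodule.coe_smul, smul_smul]; exact hx _
  simpa using key ⟨z, hz⟩ 1

end Euler

section Line

open Polynomial

variable {R A : Type u} [CommRing R] [CommRing A] [Algebra R A]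

/-- the Euler derivation in one variable over a ring of constants -/
def eulerX : Derivation R A[X] A[X] :=
  (X : A[X]) • (Polynomial.derivative' (R := A)).restrictScalars R

theorem eulerX_apply (f : A[X]) : eulerX (R := R) f = X * derivative f := rfl

theorem eulerX_monomial (n : ℕ) (a : A) : eulerX (R := R) (C a * X ^ n) = n • (C a * X ^ n) := by
  rw [eulerX_apply, derivative_C_mul_X_pow, nsmul_eq_mul, map_mul, map_natCast]
  rcases Nat.eq_zero_or_pos n with rfl | hn
  · simp
  · calc X * (C a * (n : A[X]) * X ^ (n - 1)) = (n : A[X]) * (C a * (X ^ (n - 1) * X)) := by ring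
      _ = _ := by rw [← pow_succ, Nat.sub_add_cancel hn]

theorem span_D_polynomial :
    Submodule.span A[X] (Set.range (fun a => KaehlerDifferential.D R A[X] (C a)) ∪ {KaehlerDifferential.D R A[X] X}) =
      (⊤ : Submodule A[X] (Ω[A[X]⁄R])) := by
  rw [eq_top_iff, ← KaehlerDifferential.span_range_derivation, Submodule.span_le]
  rintro _ ⟨f, rfl⟩
  induction f using Polynomial.induction_on with
  | C a => exact Submodule.subset_span (Or.inl ⟨a, rfl⟩)
  | add p q hp hq => rw [map_add]; exact Submodule.add_mem _ hp hq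
  | monomial n a ih =>
    rw [pow_succ, ← mul_assoc, Derivation.leibniz]
    exact Submodule.add_mem _ (Submodule.smul_mem _ _ (Submodule.subset_span (Or.inr rfl)))
      (Submodule.smul_mem _ _ ih)

theorem line_poincare [Algebra ℚ R]
    (d : ∀ p : ℕ, ↥(⋀[A]^p (Ω[A⁄R])) →ₗ[R] ↥(⋀[A]^(p + 1) (Ω[A⁄R])))
    (hd : DeRham.IsDiff (KaehlerDifferential.D R A) d)
    (d' : ∀ p : ℕ, ↥(⋀[A[X]]^p (Ω[A[X]⁄R])) →ₗ[R] ↥(⋀[A[X]]^(p + 1) (Ω[A[X]⁄R])))
    (hd' : DeRham.IsDiff (KaehlerDifferential.D R A[X]) d')
    (ψ : ∀ p : ℕ, ↥(⋀[A]^p (Ω[A⁄R])) →+ ↥(⋀[A[X]]^p (Ω[A[X]⁄R])))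
    (hψ : DeRham.IsCxMap (KaehlerDifferential.D R A) (KaehlerDifferential.D R A[X]) (algebraMap A A[X]) ψ)
    (hcomm : ∀ (p : ℕ) (x : ↥(⋀[A]^p (Ω[A⁄R]))), ψ (p + 1) (d p x) = d' p (ψ p x)) (i : ℕ) :
    (∀ y ∈ DeRham.cocycles d' i, ∃ x ∈ DeRham.cocycles d i, y - ψ i x ∈ DeRham.coboundaries d' i) ∧
      (∀ x ∈ DeRham.cocycles d i, ψ i x ∈ DeRham.coboundaries d' i → x ∈ DeRham.coboundaries d i) := by
  obtain ⟨ev, hev⟩ := exists_isCxMap_ringHom (R := R) (Polynomial.evalRingHom (0 : A)) fun r => by
    show eval 0 (C (algebraMap R A r)) = _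
    rw [eval_C]
  have hevd : ∀ (q : ℕ) (x : ↥(⋀[A[X]]^q (Ω[A[X]⁄R]))), ev (q + 1) (d' q x) = d q (ev q x) := fun q x => by
    letI : Algebra A[X] A := (Polynomial.evalRingHom (0 : A)).toAlgebra
    exact cxMap_comm (KaehlerDifferential.span_range_derivation R A[X]) hd'.1 hd.1 hev q x
  have hretr : ∀ q (x : ↥(⋀[A]^q (Ω[A⁄R]))), ev q (ψ q x) = x := fun q x => by
    refine DFunLike.congr_fun (ext_of_gen (KaehlerDifferential.span_range_derivation R A)
      ((ev q).comp (ψ q)) (AddMonoidHom.id _) fun b₀ b => ?_) x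
    show ev q (ψ q _) = _
    rw [hψ, hev]
    simp
  refine ⟨fun y hy => ?_, fun x _ hx => ?_⟩
  · refine ⟨ev i y, ?_, ?_⟩
    · show d i (ev i y) = 0
      rw [← hevd, show d' i y = 0 from hy, map_zero]
    let D' := KaehlerDifferential.D R A[X]
    have hu : ∀ c : ℕ, c ≠ 0 → IsUnit (c : R) := fun c hc => by
      rw [← map_natCast (algebraMap ℚ R)]
      exact (isUnit_iff_ne_zero.2 (Nat.cast_ne_zero.2 hc)).map _
    have key : ∀ z : ↥(⋀[A[X]]^i (Ω[A[X]⁄R])),
        ((z - ψ i (ev i z) : ↥(⋀[A[X]]^i (Ω[A[X]⁄R]))) : ExteriorAlgebra A[X] (Ω[A[X]⁄R])) ∈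
          nullSub (eulerX (R := R)) := by
      intro z
      suffices H : ∀ c : A[X], (fun w : ↥(⋀[A[X]]^i (Ω[A[X]⁄R])) => ((w - ψ i (ev i w) :
          ↥(⋀[A[X]]^i (Ω[A[X]⁄R]))) : ExteriorAlgebra A[X] (Ω[A[X]⁄R])) ∈ nullSub (eulerX (R := R))) (c • z) by
        simpa using H 1
      have hz : z ∈ Submodule.span A[X] (exteriorPower.ιMulti A[X] i '' {a | Set.range a ⊆
          Set.range (fun a => D' (C a)) ∪ {D' X}}) := by
        rw [exteriorPower.ιMulti_span_of_span A[X] i (Ω[A[X]⁄R]) span_D_polynomial]; exact Submodule.mem_top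
      induction hz using Submodule.span_induction with
      | mem z hz =>
        obtain ⟨v, hv, rfl⟩ := hz
        intro c
        show ((c • _ - ψ i (ev i (c • _)) : ↥(⋀[A[X]]^i (Ω[A[X]⁄R]))) : ExteriorAlgebra A[X] (Ω[A[X]⁄R])) ∈ _
        induction c using Polynomial.induction_on' with
        | add p q hp hq =>
          rw [add_smul, map_add, map_add, add_sub_add_comm, Submodule.coe_add]
          exact add_mem hp hq
        | monomial n a =>
          rw [← C_mul_X_pow_eq_monomial]
          have hc : ∀ j, ∃ (cj : A[X]) (wj : ℕ), v j = D' cj ∧ eulerX (R := R) cj = wj • cj ∧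
              ((wj = 0 ∧ ∃ aj, cj = C aj) ∨ (wj = 1 ∧ cj = X)) := by
            intro j
            rcases hv ⟨j, rfl⟩ with ⟨aj, haj⟩ | hj
            · exact ⟨C aj, 0, haj.symm, by simp [eulerX_apply], Or.inl ⟨rfl, aj, rfl⟩⟩
            · exact ⟨X, 1, hj, by simp [eulerX_apply], Or.inr ⟨rfl, rfl⟩⟩
          choose cs w hcv hcw hcases using hc
          obtain rfl : v = fun j => D' (cs j) := funext hcv
          have hgen : (C a * X ^ n) • exteriorPower.ιMulti A[X] i (fun j => D' (cs j)) =
              DeRham.gen D' i (C a * X ^ n) cs := rfl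
          rw [hgen, hev]
          by_cases hn : n = 0 ∧ ∀ j, w j = 0
          · obtain ⟨rfl, hw⟩ := hn
            choose aj haj using fun j => ((hcases j).resolve_right fun h => by simpa [hw j] using h.1).2
            rw [hψ]
            have : DeRham.gen D' i (algebraMap A A[X] (evalRingHom 0 (C a * X ^ 0)))
                (fun j => algebraMap A A[X] (evalRingHom 0 (cs j))) = DeRham.gen D' i (C a * X ^ 0) cs := by
              congr 1
              · simp
              · funext j; simp [haj j]
            rw [this, sub_self]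
            exact zero_mem _
          · have hz0 : DeRham.gen (KaehlerDifferential.D R A) i (evalRingHom 0 (C a * X ^ n))
                (fun j => evalRingHom 0 (cs j)) = 0 := by
              rw [DeRham.gen]
              by_cases hn0 : n = 0
              · obtain ⟨j, hj⟩ := not_forall.1 fun h => hn ⟨hn0, h⟩
                have hX : cs j = X := ((hcases j).resolve_left fun h => hj h.1).2
                rw [AlternatingMap.map_coord_zero _ j (by simp [hX]), smul_zero]
              · simp [zero_pow hn0]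
            rw [hz0, map_zero, sub_zero]
            refine mem_nullSub_of_eigen _ (c := n + ∑ j, w j) (hu _ fun h0 => hn ?_)
              (lie_eigen _ (eulerX_monomial n a) cs w hcw)
            obtain ⟨h1, h2⟩ := Nat.add_eq_zero_iff.1 h0
            exact ⟨h1, fun j => Finset.sum_eq_zero_iff.1 h2 j (Finset.mem_univ j)⟩
      | zero => intro c; simp
      | add a b _ _ ha hb =>
        intro c
        show ((c • (a + b) - ψ i (ev i (c • (a + b))) : ↥(⋀[A[X]]^i (Ω[A[X]⁄R]))) : ExteriorAlgebra A[X] (Ω[A[X]⁄R])) ∈ _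
        rw [smul_add, map_add, map_add, add_sub_add_comm, Submodule.coe_add]
        exact add_mem (ha c) (hb c)
      | smul a b _ hb => intro c; rw [smul_smul]; exact hb _
    have hcl : d' i (y - ψ i (ev i y)) = 0 := by
      rw [map_sub, show d' i y = 0 from hy, ← hcomm, ← hevd, show d' i y = 0 from hy, map_zero, map_zero, sub_zero]
    cases i with
    | succ q =>
      obtain ⟨w, hw⟩ := exists_primitive_dp _ _ (key y) hd'.1 hcl
      exact ⟨w, hw⟩
    | zero =>
      obtain ⟨Q, hQ, hQz⟩ := key y
      show y - ψ 0 (ev 0 y) = 0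
      refine Subtype.ext ?_
      set z : ↥(⋀[A[X]]^0 (Ω[A[X]⁄R])) := y - ψ 0 (ev 0 y)
      have hz0 : lie (eulerX (R := R)) (z : ExteriorAlgebra A[X] (Ω[A[X]⁄R])) = 0 := by
        rw [eq_dp hd'.1] at hcl
        obtain ⟨a, ha⟩ : ∃ a, algebraMap A[X] (ExteriorAlgebra A[X] (Ω[A[X]⁄R])) a = z := by
          have := z.2
          change _ ∈ (LinearMap.range (ExteriorAlgebra.ι A[X] : Ω[A[X]⁄R] →ₗ[A[X]] _)) ^ 0 at this
          rw [pow_zero] at this
          exact Submodule.mem_one.1 this
        rw [lie_apply, congrArg Subtype.val hcl |> fun h => (show d0 (kDatum R A[X]) _ = 0 from h), map_zero,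
          add_zero, ← ha, cont_algebraMap, map_zero]
      obtain ⟨S, hS⟩ : Polynomial.X ∣ Q - 1 := by
        rw [Polynomial.X_dvd_iff, Polynomial.coeff_sub, hQ, Polynomial.coeff_one_zero, sub_self]
      have := congrArg (fun P => Polynomial.aeval (lie (eulerX (R := R))) P (z : ExteriorAlgebra A[X] (Ω[A[X]⁄R]))) hS
      simp only [map_sub, map_one, mul_comm Polynomial.X S, map_mul, Polynomial.aeval_X, LinearMap.sub_apply,
        Module.End.one_apply, Module.End.mul_apply, hQz, hz0, map_zero, zero_sub, neg_eq_zero] at this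
      exact this
  · cases i with
    | zero =>
      show x = 0
      rw [← hretr 0 x, show ψ 0 x = 0 from hx, map_zero]
    | succ q =>
      obtain ⟨w, hw⟩ := hx
      exact ⟨ev q w, by rw [← hevd, hw, hretr]⟩

end Line

end Groth.Agent.DR15

namespace Groth.Agent.DR15

open ExteriorAlgebra

theorem poincare_mvPolynomial {k : Type u} [Field k] [CharZero k] (n : ℕ)
    (d : ExteriorAlgebra (MvPolynomial (Fin n) k) (KaehlerDifferential k (MvPolynomial (Fin n) k)) →ₗ[k]
      ExteriorAlgebra (MvPolynomial (Fin n) k) (KaehlerDifferential k (MvPolynomial (Fin n) k)))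
    (h0 : ∀ a : MvPolynomial (Fin n) k,
      d (algebraMap (MvPolynomial (Fin n) k) _ a) =
        ExteriorAlgebra.ι (MvPolynomial (Fin n) k) (KaehlerDifferential.D k (MvPolynomial (Fin n) k) a))
    (hder : ∀ (p : ℕ) (ω η : ExteriorAlgebra (MvPolynomial (Fin n) k) (KaehlerDifferential k (MvPolynomial (Fin n) k))),
      ω ∈ ExteriorAlgebra.exteriorPower (MvPolynomial (Fin n) k) p (KaehlerDifferential k (MvPolynomial (Fin n) k)) →
        d (ω * η) = d ω * η + (-1) ^ p * ω * d η)
    (hdd : ∀ ω, d (d ω) = 0) :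
    (∀ a : MvPolynomial (Fin n) k, d (algebraMap (MvPolynomial (Fin n) k) _ a) = 0 →
        ∃ c : k, a = MvPolynomial.C c) ∧
    ∀ (p : ℕ) (ω : ExteriorAlgebra (MvPolynomial (Fin n) k) (KaehlerDifferential k (MvPolynomial (Fin n) k))),
      ω ∈ ExteriorAlgebra.exteriorPower (MvPolynomial (Fin n) k) (p + 1) (KaehlerDifferential k (MvPolynomial (Fin n) k)) →
        d ω = 0 →
          ∃ θ ∈ ExteriorAlgebra.exteriorPower (MvPolynomial (Fin n) k) p (KaehlerDifferential k (MvPolynomial (Fin n) k)),
            d θ = ω := by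
  have hd : d.toAddMonoidHom = d0 (kDatum k (MvPolynomial (Fin n) k)) :=
    ext_dK _ h0 (fun p q x y hx _ => hder p x y hx) hdd
  have hd' : ∀ x, d x = d0 (kDatum k (MvPolynomial (Fin n) k)) x := fun x => DFunLike.congr_fun hd x
  refine ⟨fun a ha => ?_, fun p ω hω hdω => ?_⟩
  · refine exists_C_of_euler_eq_zero a ?_
    rw [h0, ExteriorAlgebra.ι_eq_zero_iff] at ha
    rw [← Derivation.liftKaehlerDifferential_comp_D (euler (k := k) (σ := Fin n)) a, ha, map_zero]
  · rw [hd'] at hdω
    obtain ⟨w, hw, hwz⟩ := exists_primitive euler hω (mem_nullSub_euler p hω) hdω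
    exact ⟨w, hw, by rw [hd', hwz]⟩

end Groth.Agent.DR15
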